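import Mathlib
import Groth.Agent.DefSchLib.Ext

/-! Differences of lifts of ring maps along small surjections; unique extension along étale maps. -/

set_option autoImplicit false
set_option backward.isDefEq.respectTransparency false
set_option backward.isDefEq.respectTransparency.types false
set_option linter.style.haveILetI false

universe u

open CategoryTheory AlgebraicGeometry IsLocalRing
open scoped TensorProduct

noncomputable section

namespace Groth.Agent.DefClassLib

section Etale

variable {S T R B : Type u} [CommRing S] [CommRing T] [CommRing R] [CommRing B]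

theorem ext_etale (a : S →+* T) (ha : a.Etale) {I : Ideal R} (hI : IsNilpotent I) {f g : T →+* R}
    (h : f.comp a = g.comp a) (h' : ∀ t, f t - g t ∈ I) : f = g := by
  letI := a.toAlgebra
  haveI : Algebra.Etale S T := ha
  letI : Algebra S R := (f.comp a).toAlgebra
  have e := Algebra.FormallyUnramified.ext (R := S) I hI (g₁ := ({ f with commutes' := fun _ => rfl } : T →ₐ[S] R))
    (g₂ := ({ g with commutes' := fun s => (RingHom.congr_fun h s).symm } : T →ₐ[S] R))
    fun t => Ideal.Quotient.eq.mpr (h' t)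
  exact RingHom.ext fun t => AlgHom.congr_fun e t

theorem exists_etale_lift (a : S →+* T) (ha : a.Etale) (π : R →+* B) (hπ : Function.Surjective π)
    (hn : IsNilpotent (RingHom.ker π)) (f : S →+* R) (g₀ : T →+* B) (h : π.comp f = g₀.comp a) :
    ∃ F : T →+* R, F.comp a = f ∧ π.comp F = g₀ := by
  letI := a.toAlgebra
  haveI : Algebra.Etale S T := ha
  letI : Algebra S R := f.toAlgebra
  let e := RingHom.quotientKerEquivOfSurjective hπ
  let g : T →ₐ[S] R ⧸ RingHom.ker π :=
    { e.symm.toRingHom.comp g₀ with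
      commutes' := fun s => e.injective (by
        show e (e.symm (g₀ (a s))) = π (f s)
        rw [RingEquiv.apply_symm_apply]
        exact (RingHom.congr_fun h s).symm) }
  obtain ⟨F, hF⟩ := Algebra.FormallySmooth.exists_lift (RingHom.ker π) hn g
  refine ⟨F.toRingHom, RingHom.ext F.commutes, RingHom.ext fun t => ?_⟩
  have h1 := congrArg e (AlgHom.congr_fun hF t)
  show π (F t) = g₀ t
  refine Eq.trans ?_ (h1.trans (e.apply_symm_apply (g₀ t)))
  rfl

theorem der_eq_of_unramified (a : S →+* T) (ha : a.Etale) (ρ : T →+* B) (δ δ' : T →+ B)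
    (hδ : ∀ r s, δ (r * s) = ρ r * δ s + ρ s * δ r) (hδ' : ∀ r s, δ' (r * s) = ρ r * δ' s + ρ s * δ' r)
    (h : ∀ s, δ (a s) = δ' (a s)) : δ = δ' := by
  refine AddMonoidHom.ext fun t => ?_
  let f : T →+* TrivSqZeroExt B B :=
    { toFun := fun t => TrivSqZeroExt.inl (ρ t) + TrivSqZeroExt.inr (δ t)
      map_one' := by
        have h1 := hδ 1 1
        simp only [one_mul, map_one ρ, left_eq_add] at h1
        simp [h1]
      map_mul' := fun r s => by
        refine TrivSqZeroExt.ext (by simp) ?_
        simp [hδ, mul_comm (δ r)]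
      map_zero' := by simp
      map_add' := fun r s => by
        refine TrivSqZeroExt.ext (by simp) (by simp) }
  let g : T →+* TrivSqZeroExt B B :=
    { toFun := fun t => TrivSqZeroExt.inl (ρ t) + TrivSqZeroExt.inr (δ' t)
      map_one' := by
        have h1 := hδ' 1 1
        simp only [one_mul, map_one ρ, left_eq_add] at h1
        simp [h1]
      map_mul' := fun r s => by
        refine TrivSqZeroExt.ext (by simp) ?_
        simp [hδ', mul_comm (δ' r)]
      map_zero' := by simp
      map_add' := fun r s => by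
        refine TrivSqZeroExt.ext (by simp) (by simp) }
  have e : f = g := by
    refine ext_etale a ha (I := RingHom.ker (TrivSqZeroExt.fstHom B B B).toRingHom) ⟨2, ?_⟩ ?_ fun t => ?_
    · rw [Ideal.zero_eq_bot, pow_two, ← le_bot_iff, Ideal.mul_le]
      intro u hu v hv
      replace hu : u.fst = 0 := hu
      replace hv : v.fst = 0 := hv
      exact Ideal.mem_bot.mpr (TrivSqZeroExt.ext (by simp [hu]) (by simp [hu, hv]))
    · refine RingHom.ext fun s => TrivSqZeroExt.ext (by simp [f, g]) ?_
      simp [f, g, h s]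
    · show (f t - g t).fst = 0
      simp [f, g]
  simpa [f, g] using congrArg TrivSqZeroExt.snd (RingHom.congr_fun e t)

end Etale

section Coef

variable {k : Type u} [Field k] {B₀ : Type u} [CommRing B₀] [Algebra k B₀] {J : Type u} [AddCommGroup J]
  [Module k J]

/-- The coefficient of a functional. -/
def coef (l : J →ₗ[k] k) : B₀ ⊗[k] J →ₗ[k] B₀ :=
  (TensorProduct.rid k B₀).toLinearMap.comp (l.lTensor B₀)

theorem coef_tmul (l : J →ₗ[k] k) (b : B₀) (j : J) : coef l (b ⊗ₜ j) = l j • b := by
  simp [coef]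

theorem coef_smul (l : J →ₗ[k] k) (b : B₀) (a : B₀ ⊗[k] J) : coef l (b • a) = b * coef l a := by
  induction a with
  | zero => simp
  | tmul c j => rw [TensorProduct.smul_tmul', coef_tmul, coef_tmul, smul_eq_mul, mul_smul_comm]
  | add a a' ha ha' => rw [smul_add, map_add, map_add, mul_add, ha, ha']

theorem coef_add (l l' : J →ₗ[k] k) (a : B₀ ⊗[k] J) : coef (l + l') a = coef l a + coef l' a := by
  induction a with
  | zero => simp
  | tmul c j => simp [coef_tmul, add_smul]
  | add a a' ha ha' => simp only [map_add, ha, ha']; abel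

theorem coef_smul_left (c : k) (l : J →ₗ[k] k) (a : B₀ ⊗[k] J) : coef (c • l) a = c • coef l a := by
  induction a with
  | zero => simp
  | tmul b j => simp [coef_tmul, smul_smul]
  | add a a' ha ha' => simp only [map_add, smul_add, ha, ha']

theorem eq_zero_of_coef {a : B₀ ⊗[k] J} (h : ∀ l : J →ₗ[k] k, coef l a = 0) : a = 0 := by
  let b := Module.Basis.ofVectorSpace k J
  obtain ⟨c, rfl⟩ := TensorProduct.eq_repr_basis_right b a
  have hc : c = 0 := Finsupp.ext fun i => by
    classical
    have h1 := h (b.coord i)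
    rw [Finsupp.sum, map_sum] at h1
    simp only [coef_tmul, Module.Basis.coord_apply, Module.Basis.repr_self, Finsupp.single_apply, ite_smul,
      one_smul, zero_smul, Finset.sum_ite_eq'] at h1
    by_cases hi : i ∈ c.support
    · rw [if_pos hi] at h1
      exact h1
    · exact Finsupp.notMem_support_iff.mp hi
  rw [hc, Finsupp.sum_zero_index]

end Coef

open ArtFun ArtFun.Art DefSchLib

variable {k : Type u} [Field k] {B₀ : Type u} [CommRing B₀] [Algebra k B₀]
  {C' C : Art k k} {p : C' ⟶ C} (hp : KilledKer p) {D' : RingDef B₀ C'} {D : RingDef B₀ C}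

theorem π_mu (a : B₀ ⊗[k] ↥(RingHom.ker p.toAlgHom)) : D'.π (mu hp D' a) = 0 := by
  induction a with
  | zero => rw [map_zero, map_zero]
  | tmul v j =>
    obtain ⟨s, rfl⟩ := D'.π_surjective v
    rw [mu_tmul, map_mul, D'.π_str, ← Art.res_app p (j : C'), show p (j : C') = 0 from RingHom.mem_ker.mp j.2,
      map_zero, map_zero, zero_mul]
  | add a a' ha ha' => rw [map_add, map_add, ha, ha', add_zero]

theorem mu_mul_mu (a b : B₀ ⊗[k] ↥(RingHom.ker p.toAlgHom)) : mu hp D' a * mu hp D' b = 0 := by
  rw [mul_mu, π_mu, zero_smul, map_zero]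

theorem mu_map {B₁ : Type u} [CommRing B₁] [Algebra k B₁] {E' E : Art k k} {q : E' ⟶ E} (hq : KilledKer q)
    {D₁ : RingDef B₁ E'} (g : C' →+* E') (φ : D'.R →+* D₁.R) (hφ : ∀ c, φ (D'.str c) = D₁.str (g c))
    (ρ : B₀ →ₐ[k] B₁) (hρ : ∀ r, D₁.π (φ r) = ρ (D'.π r))
    (gJ : ↥(RingHom.ker p.toAlgHom) →ₗ[k] ↥(RingHom.ker q.toAlgHom)) (hg : ∀ j, ((gJ j : E') = g (j : C')))
    (a : B₀ ⊗[k] ↥(RingHom.ker p.toAlgHom)) :
    φ (mu hp D' a) = mu hq D₁ (TensorProduct.map ρ.toLinearMap gJ a) := by
  induction a with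
  | zero => simp
  | tmul v j =>
    obtain ⟨s, rfl⟩ := D'.π_surjective v
    rw [mu_tmul, map_mul, hφ, TensorProduct.map_tmul]
    show _ = mu hq D₁ (ρ (D'.π s) ⊗ₜ gJ j)
    rw [← hρ, mu_tmul, hg]
  | add a a' ha ha' => simp only [map_add, ha, ha']

theorem coef_map {B₁ : Type u} [CommRing B₁] [Algebra k B₁] {J J' : Type u} [AddCommGroup J] [Module k J]
    [AddCommGroup J'] [Module k J'] (ρ : B₀ →ₐ[k] B₁) (gJ : J →ₗ[k] J') (l : J' →ₗ[k] k) (a : B₀ ⊗[k] J) :
    coef l (TensorProduct.map ρ.toLinearMap gJ a) = ρ (coef (l.comp gJ) a) := by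
  induction a with
  | zero => simp
  | tmul v j => simp [coef_tmul]
  | add a a' ha ha' => simp only [map_add, ha, ha']

variable (h : Hom p D' D) (hs : Function.Surjective p) {S : Type u} [CommRing S]

include h hs in
theorem exists_diff {θ θ' : S →+* D'.R} (hθ : ∀ r, h.φ (θ r) = h.φ (θ' r)) :
    ∃ δ : S →+ B₀ ⊗[k] ↥(RingHom.ker p.toAlgHom), (∀ r, mu hp D' (δ r) = θ' r - θ r) ∧
      ∀ r s, δ (r * s) = D'.π (θ r) • δ s + D'.π (θ s) • δ r := by
  have hex : ∀ r, ∃ a, mu hp D' a = θ' r - θ r := fun r =>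
    (mem_ker_iff hp D' h hs _).mp (by rw [map_sub, hθ, sub_self])
  choose a ha using hex
  have hπ : ∀ r, D'.π (θ' r) = D'.π (θ r) := fun r => by
    rw [← h.π_φ, ← h.π_φ, hθ]
  refine ⟨AddMonoidHom.mk' a fun r s => mu_injective hp D' (by
    rw [map_add, ha, ha, ha, map_add, map_add]
    ring), ha, fun r s => mu_injective hp D' ?_⟩
  show mu hp D' (a (r * s)) = mu hp D' (_ • a s + _ • a r)
  rw [map_add, ha, ← mul_mu, ← hπ s, ← mul_mu, ha, ha, map_mul, map_mul]
  ring

theorem exists_shift (θ : S →+* D'.R) (δ : S →+ B₀ ⊗[k] ↥(RingHom.ker p.toAlgHom))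
    (hδ : ∀ r s, δ (r * s) = D'.π (θ r) • δ s + D'.π (θ s) • δ r) :
    ∃ θ' : S →+* D'.R, ∀ r, θ' r = θ r + mu hp D' (δ r) := by
  have h1 : δ 1 = 0 := by
    have := hδ 1 1
    simp only [one_mul, map_one θ, map_one D'.π, one_smul, left_eq_add] at this
    exact this
  exact ⟨{ toFun := fun r => θ r + mu hp D' (δ r)
           map_one' := by simp [h1]
           map_mul' := fun r s => by
             rw [map_mul, hδ, map_add, ← mul_mu, ← mul_mu, add_mul, mul_add, mul_add, mu_mul_mu]
             ring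
           map_zero' := by simp
           map_add' := fun r s => by rw [map_add, map_add, map_add]; abel }, fun r => rfl⟩

end Groth.Agent.DefClassLib
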