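import Groth.Agent.DefClassLib.Sect
import Groth.Agent.DefGlueLib.OfSch
import Groth.Agent.DefSchLib.Fibre

/-! Lifts of a map to a scheme on affine pieces of a deformation, and their differences. -/

set_option autoImplicit false
set_option backward.isDefEq.respectTransparency false
set_option backward.isDefEq.respectTransparency.types false
set_option linter.style.haveILetI false

universe u

open CategoryTheory CategoryTheory.Limits AlgebraicGeometry TopologicalSpace Opposite ArtFun ArtFun.Art IsLocalRing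
open scoped TensorProduct

noncomputable section

namespace Groth.Agent.DefClassLib

open LocHilbGlueLib DefGlueLib DefSchLib RigidLib

variable {k : Type u} [Field k] {X P : Scheme.{u}} {x : X ⟶ specPt k} {A B : Art k k}

/-- Restriction on the total space. -/
abbrev resR (ξ : DefSch X x A) {W W' : X.Opens} (h : W' ≤ W) : Γ(ξ.total, imU ξ W) ⟶ Γ(ξ.total, imU ξ W') :=
  ξ.total.presheaf.map (homOfLE (imU_mono ξ h)).op

theorem piU_res (ξ : DefSch X x A) {W W' : X.Opens} (h : W' ≤ W) :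
    resR ξ h ≫ piU ξ W' = piU ξ W ≫ X.presheaf.map (homOfLE h).op := by
  simp [piU, Scheme.Hom.appLE_map]

theorem strU_res (ξ : DefSch X x A) {W W' : X.Opens} (h : W' ≤ W) :
    strU ξ (imU ξ W) ≫ resR ξ h = strU ξ (imU ξ W') := by
  simp [strU, Scheme.Hom.appLE_map]

/-- The lift on one affine open. -/
abbrev ringD (ξ : DefSch X x A) {W : X.Opens} (hW : IsAffineOpen W) :
    letI := algV x W
    RingDef (Λ := k) Γ(X, W) A :=
  letI := algV x W
  { R := Γ(ξ.total, imU ξ W)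
    str := (strU ξ (imU ξ W)).hom
    flat := (DefGlueLib.toFam ξ).flat (op ⟨W, hW⟩)
    π := (piU ξ W).hom
    π_surjective := (DefGlueLib.toFam ξ).π_surj (op ⟨W, hW⟩)
    π_str := fun a => ConcreteCategory.congr_hom ((DefGlueLib.toFam ξ).π_str (op ⟨W, hW⟩)) a
    ker_π := (DefGlueLib.toFam ξ).ker_π (op ⟨W, hW⟩) }

/-- A morphism of deformations on one affine open. -/
abbrev homD {g : A ⟶ B} {ξ : DefSch X x A} {η : DefSch X x B} (m : DefGlueLib.Mor g ξ η) {W : X.Opens}
    (hW : IsAffineOpen W) :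
    letI := algV x W
    DefSchLib.Hom g (ringD ξ hW) (ringD η hW) :=
  letI := algV x W
  { φ := (m.ψ.appLE (imU ξ W) (imU η W) (m.preimage_imU _).ge).hom
    φ_str := fun a => (m.toFam.hom (op ⟨W, hW⟩)).φ_str a
    π_φ := fun r => (m.toFam.hom (op ⟨W, hW⟩)).π_φ r }

theorem isNilpotent_piU (ξ : DefSch X x A) {W : X.Opens} (hW : IsAffineOpen W) :
    IsNilpotent (RingHom.ker (piU ξ W).hom) :=
  (DefGlueLib.toFam ξ).isNilpotent_ker (op ⟨W, hW⟩)

theorem piU_surjective (ξ : DefSch X x A) {W : X.Opens} (hW : IsAffineOpen W) :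
    Function.Surjective (piU ξ W).hom :=
  (DefGlueLib.toFam ξ).π_surj (op ⟨W, hW⟩)

/-- A lift of a map to `P` on one piece of a deformation. -/
structure Chart (ξ : DefSch X x A) (y : P ⟶ specPt k) (i : X ⟶ P) (V : P.Opens) : Type u where
  /-- the map on functions -/
  θ : Γ(P, V) ⟶ Γ(ξ.total, imU ξ (i ⁻¹ᵁ V))
  π : θ ≫ piU ξ (i ⁻¹ᵁ V) = i.app V
  alg : algR y V ≫ θ = CommRingCat.ofHom (algebraMap k A) ≫ strU ξ (imU ξ (i ⁻¹ᵁ V))

theorem algR_res (y : P ⟶ specPt k) {V V' : P.Opens} (h : V' ≤ V) :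
    algR y V ≫ P.presheaf.map (homOfLE h).op = algR y V' := by
  simp [algR, Scheme.Hom.appLE_map]

theorem algR_app {y : P ⟶ specPt k} {i : X ⟶ P} (hi : i ≫ y = x) (V : P.Opens) :
    algR y V ≫ i.app V = algR x (i ⁻¹ᵁ V) := by
  subst hi
  rw [algR, algR, Category.assoc, Scheme.Hom.app_eq_appLE, Scheme.Hom.appLE_comp_appLE]

variable (ξ : DefSch X x A) {y : P ⟶ specPt k} {i : X ⟶ P} [IsAffineHom i] (hi : i ≫ y = x)

include hi in
theorem exists_chart [Smooth y] {V : P.Opens} (hV : IsAffineOpen V) : Nonempty (Chart ξ y i V) := by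
  letI := algV y V
  let R := Γ(ξ.total, imU ξ (i ⁻¹ᵁ V))
  let π : R →+* Γ(X, i ⁻¹ᵁ V) := (piU ξ (i ⁻¹ᵁ V)).hom
  letI : Algebra k R := (CommRingCat.ofHom (algebraMap k A) ≫ strU ξ (imU ξ (i ⁻¹ᵁ V))).hom.toAlgebra
  letI := algV x (i ⁻¹ᵁ V)
  let πa : R →ₐ[k] Γ(X, i ⁻¹ᵁ V) :=
    { π with
      commutes' := fun c => by
        show piU ξ _ (strU ξ _ (algebraMap k A c)) = algR x _ c
        exact ((ringD ξ (hV.preimage i)).π_str _).trans (congrArg (algR x _) (A.res.commutes c)) }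
  let g : Γ(P, V) →ₐ[k] Γ(X, i ⁻¹ᵁ V) :=
    { (i.app V).hom with commutes' := fun c => ConcreteCategory.congr_hom (algR_app hi V) c }
  haveI : Algebra.Smooth k Γ(P, V) := by
    have h1 := y.smooth_appLE (isAffineOpen_top _) hV (le_top : V ≤ y ⁻¹ᵁ ⊤)
    exact RingHom.Smooth.respectsIso.2 (f := (y.appLE ⊤ V le_top).hom)
      (Scheme.ΓSpecIso (CommRingCat.of k)).symm.commRingCatIsoToRingEquiv h1
  have hs : Function.Surjective πa := piU_surjective ξ (hV.preimage i)
  let F := Algebra.FormallySmooth.liftOfSurjective g πa hs (isNilpotent_piU ξ (hV.preimage i))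
  refine ⟨⟨CommRingCat.ofHom F.toRingHom, ?_, ?_⟩⟩
  · refine CommRingCat.hom_ext (RingHom.ext fun r => ?_)
    exact Algebra.FormallySmooth.liftOfSurjective_apply g πa hs _ r
  · refine CommRingCat.hom_ext (RingHom.ext fun c => ?_)
    exact F.commutes c

theorem exists_res {V V' : P.Opens} (hV : IsAffineOpen V) (hV' : IsAffineOpen V') (h : V' ≤ V)
    (θ : Chart ξ y i V) :
    ∃ θ' : Chart ξ y i V', θ.θ ≫ resR ξ (i.preimage_mono h) = P.presheaf.map (homOfLE h).op ≫ θ'.θ := by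
  have het : (P.presheaf.map (homOfLE h).op).hom.Etale := by
    have h1 := Scheme.Hom.etale_appLE (𝟙 P) hV hV' h
    simpa [Scheme.Hom.appLE] using h1
  obtain ⟨F, hF, hF'⟩ := exists_etale_lift _ het (piU ξ (i ⁻¹ᵁ V')).hom (piU_surjective ξ (hV'.preimage i))
    (isNilpotent_piU ξ (hV'.preimage i)) (θ.θ ≫ resR ξ (i.preimage_mono h)).hom (i.app V').hom (by
      rw [← CommRingCat.hom_comp, ← CommRingCat.hom_comp, Category.assoc, piU_res, ← Category.assoc, θ.π]
      exact congrArg CommRingCat.Hom.hom (i.naturality (homOfLE h).op).symm)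
  have e : θ.θ ≫ resR ξ (i.preimage_mono h) = P.presheaf.map (homOfLE h).op ≫ CommRingCat.ofHom F :=
    CommRingCat.hom_ext hF.symm
  refine ⟨⟨CommRingCat.ofHom F, CommRingCat.hom_ext hF', ?_⟩, e⟩
  rw [← algR_res y h, Category.assoc, ← e, ← Category.assoc, θ.alg, Category.assoc, strU_res]

/-- Restriction of a chart. -/
def Chart.res {V V' : P.Opens} (hV : IsAffineOpen V) (hV' : IsAffineOpen V') (h : V' ≤ V) (θ : Chart ξ y i V) :
    Chart ξ y i V' :=
  (exists_res ξ hV hV' h θ).choose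

theorem Chart.res_spec {V V' : P.Opens} (hV : IsAffineOpen V) (hV' : IsAffineOpen V') (h : V' ≤ V)
    (θ : Chart ξ y i V) :
    θ.θ ≫ resR ξ (i.preimage_mono h) = P.presheaf.map (homOfLE h).op ≫ (θ.res ξ hV hV' h).θ :=
  (exists_res ξ hV hV' h θ).choose_spec

theorem Chart.res_unique {V V' : P.Opens} (hV : IsAffineOpen V) (hV' : IsAffineOpen V') (h : V' ≤ V)
    (θ : Chart ξ y i V) (θ' : Chart ξ y i V')
    (e : θ.θ ≫ resR ξ (i.preimage_mono h) = P.presheaf.map (homOfLE h).op ≫ θ'.θ) : θ.res ξ hV hV' h = θ' := by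
  have het : (P.presheaf.map (homOfLE h).op).hom.Etale := by
    have h1 := Scheme.Hom.etale_appLE (𝟙 P) hV hV' h
    simpa [Scheme.Hom.appLE] using h1
  have e1 : (θ.res ξ hV hV' h).θ = θ'.θ := by
    refine CommRingCat.hom_ext (ext_etale _ het (isNilpotent_piU ξ (hV'.preimage i))
      (congrArg CommRingCat.Hom.hom ((θ.res_spec ξ hV hV' h).symm.trans e)) fun t => ?_)
    rw [RingHom.mem_ker, map_sub, sub_eq_zero]
    exact (ConcreteCategory.congr_hom (θ.res ξ hV hV' h).π t).trans (ConcreteCategory.congr_hom θ'.π t).symm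
  cases θ'
  generalize θ.res ξ hV hV' h = σ at e1
  cases σ
  subst e1
  rfl

variable {ξ}

/-- The image of a chart. -/
def Chart.push {g : A ⟶ B} {η : DefSch X x B} (m : DefGlueLib.Mor g ξ η) {V : P.Opens} (θ : Chart ξ y i V) :
    Chart η y i V where
  θ := θ.θ ≫ m.ψ.appLE (imU ξ (i ⁻¹ᵁ V)) (imU η (i ⁻¹ᵁ V)) (m.preimage_imU _).ge
  π := by
    rw [Category.assoc, show m.ψ.appLE _ _ _ ≫ piU η (i ⁻¹ᵁ V) = piU ξ (i ⁻¹ᵁ V) from by
      simp [piU, Scheme.Hom.appLE_comp_appLE, m.i], θ.π]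
  alg := by
    rw [← Category.assoc, θ.alg, Category.assoc, strU_appLE, m.w]
    simp only [strU]
    rw [show CommRingCat.ofHom (algebraMap k B) =
        CommRingCat.ofHom (algebraMap k A) ≫ CommRingCat.ofHom g.toAlgHom.toRingHom from
      CommRingCat.hom_ext (RingHom.ext fun c => (g.toAlgHom.commutes c).symm), Category.assoc]
    congr 1
    rw [← Category.assoc (CommRingCat.ofHom _), Scheme.ΓSpecIso_inv_naturality, Category.assoc]
    congr 1

theorem Chart.push_res {g : A ⟶ B} {η : DefSch X x B} (m : DefGlueLib.Mor g ξ η) {V V' : P.Opens}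
    (hV : IsAffineOpen V) (hV' : IsAffineOpen V') (h : V' ≤ V) (θ : Chart ξ y i V) :
    (θ.push m).res η hV hV' h = (θ.res ξ hV hV' h).push m := by
  refine Chart.res_unique η hV hV' h _ _ ?_
  show (θ.θ ≫ _) ≫ _ = _ ≫ (θ.res ξ hV hV' h).θ ≫ _
  rw [← Category.assoc (P.presheaf.map _), ← θ.res_spec ξ hV hV' h, Category.assoc, Category.assoc]
  simp [resR, Scheme.Hom.appLE_map, Scheme.Hom.map_appLE]

/-- The maximal ideal squares to zero. -/
abbrev SqZero (A : Art k k) : Prop := ∀ a ∈ maximalIdeal A, ∀ b ∈ maximalIdeal A, a * b = 0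

/-- The maximal ideal as a space. -/
abbrev kerM (A : Art k k) : Type u := ↥(RingHom.ker (toBase A).toAlgHom)

theorem killedKer (hA : SqZero A) : KilledKer (toBase A) :=
  fun a ha j hj => hA a ha j ((A.mem_maximalIdeal_iff j).mpr hj)

theorem exists_del (hA : SqZero A) {V : P.Opens} (hV : IsAffineOpen V) (θ θ' : Chart ξ y i V) :
    letI := algV x (i ⁻¹ᵁ V)
    ∃ δ : Γ(P, V) →+ Γ(X, i ⁻¹ᵁ V) ⊗[k] kerM A,
      (∀ r, mu (killedKer hA) (ringD ξ (hV.preimage i)) (δ r) = θ'.θ r - θ.θ r) ∧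
      ∀ r s, δ (r * s) = i.app V r • δ s + i.app V s • δ r := by
  letI := algV x (i ⁻¹ᵁ V)
  have hπ : ∀ (τ : Chart ξ y i V) r, (ringD ξ (hV.preimage i)).π (τ.θ.hom r) = i.app V r := fun τ r =>
    ConcreteCategory.congr_hom τ.π r
  obtain ⟨δ, h1, h2⟩ := exists_diff (killedKer hA) (toBaseHom (ringD ξ (hV.preimage i))) A.res_surjective
    (θ := θ.θ.hom) (θ' := θ'.θ.hom) fun r => (hπ θ r).trans (hπ θ' r).symm
  exact ⟨δ, h1, fun r s => by rw [h2, hπ θ r, hπ θ s]⟩

/-- The difference of two charts. -/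
def del (hA : SqZero A) {V : P.Opens} (hV : IsAffineOpen V) (θ θ' : Chart ξ y i V) :
    letI := algV x (i ⁻¹ᵁ V)
    Γ(P, V) →+ Γ(X, i ⁻¹ᵁ V) ⊗[k] kerM A :=
  (exists_del hA hV θ θ').choose

theorem mu_del (hA : SqZero A) {V : P.Opens} (hV : IsAffineOpen V) (θ θ' : Chart ξ y i V) (r : Γ(P, V)) :
    letI := algV x (i ⁻¹ᵁ V)
    mu (killedKer hA) (ringD ξ (hV.preimage i)) (del hA hV θ θ' r) = θ'.θ r - θ.θ r :=
  (exists_del hA hV θ θ').choose_spec.1 r

theorem del_eq (hA : SqZero A) {V : P.Opens} (hV : IsAffineOpen V) (θ θ' : Chart ξ y i V) (r : Γ(P, V))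
    (a : letI := algV x (i ⁻¹ᵁ V); Γ(X, i ⁻¹ᵁ V) ⊗[k] kerM A)
    (ha : letI := algV x (i ⁻¹ᵁ V); mu (killedKer hA) (ringD ξ (hV.preimage i)) a = θ'.θ r - θ.θ r) :
    del hA hV θ θ' r = a := by
  letI := algV x (i ⁻¹ᵁ V)
  exact mu_injective (killedKer hA) _ ((mu_del hA hV θ θ' r).trans ha.symm)

theorem del_mul (hA : SqZero A) {V : P.Opens} (hV : IsAffineOpen V) (θ θ' : Chart ξ y i V) (r s : Γ(P, V)) :
    letI := algV x (i ⁻¹ᵁ V)
    del hA hV θ θ' (r * s) = i.app V r • del hA hV θ θ' s + i.app V s • del hA hV θ θ' r :=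
  (exists_del hA hV θ θ').choose_spec.2 r s

variable [QuasiSeparated y]

include hi in
theorem exists_diffSect (hA : SqZero A) {V : P.Opens} (hV : IsAffineOpen V) (θ θ' : Chart ξ y i V)
    (l : kerM A →ₗ[k] k) :
    letI := algV x (i ⁻¹ᵁ V)
    ∃ s : Γ(derSh y i, V), ∀ r, val y i s r = coef l (del hA hV θ θ' r) := by
  letI := algV x (i ⁻¹ᵁ V)
  refine exists_val y i hV ((coef l).toAddMonoidHom.comp (del hA hV θ θ')) (fun r s => ?_) fun c => ?_
  · show coef l (del hA hV θ θ' (r * s)) = _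
    rw [del_mul, map_add, coef_smul, coef_smul]
    rfl
  · show coef l (del hA hV θ θ' (algR y V c)) = 0
    rw [del_eq hA hV θ θ' _ 0 (by
      rw [map_zero, ← CommRingCat.comp_apply, ← CommRingCat.comp_apply, θ.alg, θ'.alg, sub_self]), map_zero]

/-- The difference as a section. -/
def diffSect (hA : SqZero A) {V : P.Opens} (hV : IsAffineOpen V) (θ θ' : Chart ξ y i V) (l : kerM A →ₗ[k] k) :
    Γ(derSh y i, V) :=
  (exists_diffSect hi hA hV θ θ' l).choose

theorem val_diffSect (hA : SqZero A) {V : P.Opens} (hV : IsAffineOpen V) (θ θ' : Chart ξ y i V)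
    (l : kerM A →ₗ[k] k) (r : Γ(P, V)) :
    letI := algV x (i ⁻¹ᵁ V)
    val y i (diffSect hi hA hV θ θ' l) r = coef l (del hA hV θ θ' r) :=
  (exists_diffSect hi hA hV θ θ' l).choose_spec r

theorem diffSect_cocycle (hA : SqZero A) {V : P.Opens} (hV : IsAffineOpen V) (θ θ' θ'' : Chart ξ y i V)
    (l : kerM A →ₗ[k] k) :
    diffSect hi hA hV θ θ' l + diffSect hi hA hV θ' θ'' l = diffSect hi hA hV θ θ'' l := by
  letI := algV x (i ⁻¹ᵁ V)
  refine val_ext y i hV fun r => ?_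
  rw [val_add, val_diffSect, val_diffSect, val_diffSect, ← map_add]
  refine congrArg _ (del_eq hA hV θ θ'' r _ ?_).symm
  rw [map_add, mu_del, mu_del]
  abel

theorem diffSect_add (hA : SqZero A) {V : P.Opens} (hV : IsAffineOpen V) (θ θ' : Chart ξ y i V)
    (l l' : kerM A →ₗ[k] k) :
    diffSect hi hA hV θ θ' (l + l') = diffSect hi hA hV θ θ' l + diffSect hi hA hV θ θ' l' := by
  letI := algV x (i ⁻¹ᵁ V)
  refine val_ext y i hV fun r => ?_
  rw [val_add, val_diffSect, val_diffSect, val_diffSect, coef_add]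

theorem diffSect_smul (hA : SqZero A) {V : P.Opens} (hV : IsAffineOpen V) (θ θ' : Chart ξ y i V) (c : k)
    (l : kerM A →ₗ[k] k) :
    diffSect hi hA hV θ θ' (c • l) = algR y V c • diffSect hi hA hV θ θ' l := by
  letI := algV x (i ⁻¹ᵁ V)
  refine val_ext y i hV fun r => ?_
  rw [val_smul, val_diffSect, val_diffSect, coef_smul_left, Algebra.smul_def,
    ← CommRingCat.comp_apply, algR_app hi]
  rfl

theorem rD_diffSect (hA : SqZero A) {V V' : P.Opens} (hV : IsAffineOpen V) (hV' : IsAffineOpen V') (h : V' ≤ V)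
    (θ θ' : Chart ξ y i V) (l : kerM A →ₗ[k] k) :
    rD y i h (diffSect hi hA hV θ θ' l) =
      diffSect hi hA hV' (θ.res ξ hV hV' h) (θ'.res ξ hV hV' h) l := by
  letI := algV x (i ⁻¹ᵁ V)
  letI := algV x (i ⁻¹ᵁ V')
  refine rD_eq y i hV' hV h _ _ fun r => ?_
  let ρ : Γ(X, i ⁻¹ᵁ V) →ₐ[k] Γ(X, i ⁻¹ᵁ V') :=
    { (X.presheaf.map (homOfLE (i.preimage_mono h)).op).hom with
      commutes' := fun c => ConcreteCategory.congr_hom (algR_res x (i.preimage_mono h)) c }
  rw [val_diffSect, val_diffSect]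
  refine Eq.trans (congrArg (coef l) (del_eq hA hV' _ _ _ (TensorProduct.map ρ.toLinearMap LinearMap.id
    (del hA hV θ θ' r)) ?_)) (coef_map ρ LinearMap.id l _)
  rw [← mu_map (killedKer hA) (killedKer hA) (D' := ringD ξ (hV.preimage i)) (D₁ := ringD ξ (hV'.preimage i))
    (RingHom.id A)
    (resR ξ (i.preimage_mono h)).hom (fun c => ConcreteCategory.congr_hom (strU_res ξ (i.preimage_mono h)) c) ρ
    (fun t => ConcreteCategory.congr_hom (piU_res ξ (i.preimage_mono h)) t) LinearMap.id (fun _ => rfl),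
    mu_del, map_sub]
  rw [← CommRingCat.comp_apply, ← CommRingCat.comp_apply, θ.res_spec ξ hV hV' h, θ'.res_spec ξ hV hV' h]
  rfl

theorem diffSect_push {g : A ⟶ B} {η : DefSch X x B} (m : DefGlueLib.Mor g ξ η) (hA : SqZero A) (hB : SqZero B)
    {V : P.Opens} (hV : IsAffineOpen V) (θ θ' : Chart ξ y i V) (gJ : kerM A →ₗ[k] kerM B)
    (hg : ∀ j, (gJ j : B) = g (j : A)) (l : kerM B →ₗ[k] k) :
    diffSect hi hB hV (θ.push m) (θ'.push m) l = diffSect hi hA hV θ θ' (l.comp gJ) := by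
  letI := algV x (i ⁻¹ᵁ V)
  refine val_ext y i hV fun r => ?_
  rw [val_diffSect, val_diffSect]
  let Φ := homD m (hV.preimage i)
  refine Eq.trans (congrArg (coef l) (del_eq hB hV _ _ _ (TensorProduct.map (AlgHom.id k _).toLinearMap gJ
    (del hA hV θ θ' r)) ?_)) (coef_map (AlgHom.id k _) gJ l _)
  rw [← mu_map (killedKer hA) (killedKer hB) (D₁ := ringD η (hV.preimage i)) g.toAlgHom.toRingHom Φ.φ Φ.φ_str
    (AlgHom.id k _) Φ.π_φ gJ hg, mu_del, map_sub]
  rfl

include hi in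
theorem exists_shiftChart (hA : SqZero A) {V : P.Opens} (hV : IsAffineOpen V) (θ : Chart ξ y i V)
    (s : Γ(derSh y i, V)) (j : kerM A) :
    ∃ θ' : Chart ξ y i V, ∀ l, diffSect hi hA hV θ θ' l = algR y V (l j) • s := by
  letI := algV x (i ⁻¹ᵁ V)
  let δ : Γ(P, V) →+ Γ(X, i ⁻¹ᵁ V) ⊗[k] kerM A :=
    AddMonoidHom.mk' (fun r => val y i s r ⊗ₜ[k] j) fun r r' => by rw [val_add_right, TensorProduct.add_tmul]
  obtain ⟨F, hF⟩ := exists_shift (killedKer hA) (D' := ringD ξ (hV.preimage i)) θ.θ.hom δ fun r r' => by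
    show val y i s (r * r') ⊗ₜ[k] j = _
    rw [show (ringD ξ (hV.preimage i)).π (θ.θ.hom r) = i.app V r from ConcreteCategory.congr_hom θ.π r,
      show (ringD ξ (hV.preimage i)).π (θ.θ.hom r') = i.app V r' from ConcreteCategory.congr_hom θ.π r']
    simp [δ, val_mul, TensorProduct.add_tmul, TensorProduct.smul_tmul']
  let θ' : Chart ξ y i V :=
    { θ := CommRingCat.ofHom F
      π := CommRingCat.hom_ext (RingHom.ext fun r => by
        show (ringD ξ (hV.preimage i)).π (F r) = i.app V r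
        rw [hF, map_add, π_mu, add_zero]
        exact ConcreteCategory.congr_hom θ.π r)
      alg := CommRingCat.hom_ext (RingHom.ext fun c => by
        show F (algR y V c) = _
        rw [hF]
        show θ.θ (algR y V c) + mu _ _ (val y i s (algR y V c) ⊗ₜ j) = _
        rw [val_algR, TensorProduct.zero_tmul, map_zero, add_zero]
        exact ConcreteCategory.congr_hom θ.alg c) }
  refine ⟨θ', fun l => val_ext y i hV fun r => ?_⟩
  rw [val_diffSect, val_smul, del_eq hA hV θ θ' r (δ r) (by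
    show _ = F r - θ.θ r
    rw [hF]
    exact (add_sub_cancel_left _ _).symm)]
  show coef l (val y i s r ⊗ₜ[k] j) = _
  rw [coef_tmul, ← CommRingCat.comp_apply, algR_app hi, Algebra.smul_def]
  rfl

end Groth.Agent.DefClassLib
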