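import Groth.Agent.DefClassLib.Chart
import Groth.Agent.DefGlueLib.Fibre
import Groth.Agent.H1ClassLib.Basic
import Groth.Agent.CohBase.Affine

/-! The Čech class of a first order deformation, linear and natural. -/

set_option autoImplicit false
set_option backward.isDefEq.respectTransparency false
set_option backward.isDefEq.respectTransparency.types false
set_option linter.style.haveILetI false

universe u

open CategoryTheory CategoryTheory.Limits AlgebraicGeometry TopologicalSpace Opposite ArtFun ArtFun.Art IsLocalRing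
open scoped TensorProduct

noncomputable section

namespace Groth.Agent.DefClassLib

open LocHilbGlueLib DefGlueLib DefSchLib RigidLib CohBase H1ClassLib

variable {k : Type u} [Field k] {X P : Scheme.{u}} {x : X ⟶ specPt k} {A B : Art k k}

theorem kerM_ext {A : Art k k} (j j' : kerM A) (h : (j : A.carrier) = j') : j = j' := Subtype.ext h

/-- The map of maximal ideals. -/
def kerMap (g : A ⟶ B) : kerM A →ₗ[k] kerM B where
  toFun j := ⟨g (j : A), by
    rw [RingHom.mem_ker]
    show B.res (g (j : A)) = 0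
    rw [Art.res_app]
    exact j.2⟩
  map_add' j j' := Subtype.ext (map_add g.toAlgHom _ _)
  map_smul' c j := Subtype.ext (map_smul g.toAlgHom c (j : A))

theorem kerMap_id (j : kerM A) : kerMap (𝟙 A) j = j := Subtype.ext rfl

variable {y : P ⟶ specPt k} {i : X ⟶ P} [IsAffineHom i] (hi : i ≫ y = x) [IsSeparated y]
  {ι : Type u} {V : ι → P.Opens} (hV : ∀ a, IsAffineOpen (V a))

include y in
theorem affine_inf {W W' : P.Opens} (hW : IsAffineOpen W) (hW' : IsAffineOpen W') : IsAffineOpen (W ⊓ W') := by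
  haveI : P.IsSeparated := ⟨by
    rw [← terminal.comp_from y]
    infer_instance⟩
  exact hW.inf hW'

theorem res_res_chart (ξ : DefSch X x A) {U U' U'' : P.Opens} (hU : IsAffineOpen U) (hU' : IsAffineOpen U')
    (hU'' : IsAffineOpen U'') (h : U' ≤ U) (h' : U'' ≤ U') (θ : Chart ξ y i U) :
    (θ.res ξ hU hU' h).res ξ hU' hU'' h' = θ.res ξ hU hU'' (h'.trans h) := by
  refine (Chart.res_unique ξ hU hU'' (h'.trans h) θ _ ?_).symm
  have e1 : resR ξ (i.preimage_mono (h'.trans h)) = resR ξ (i.preimage_mono h) ≫ resR ξ (i.preimage_mono h') := by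
    simp only [resR, ← Functor.map_comp]
    rfl
  rw [e1, ← Category.assoc, θ.res_spec ξ hU hU' h, Category.assoc, (θ.res ξ hU hU' h).res_spec ξ hU' hU'' h',
    ← Category.assoc]
  exact congrArg (· ≫ _) (P.presheaf.map_comp _ _).symm

/-- The abelian sheaf of derivations. -/
abbrev derAb (y : P ⟶ specPt k) (i : X ⟶ P) : AbSh P := Coh.toAb (derSh y i)

theorem res_derAb {W W' : P.Opens} (h : W' ≤ W) (s : Γ(derSh y i, W)) :
    res (derAb y i).obj h s = rD y i h s := rfl

variable {ξ : DefSch X x A} (θ : ∀ a, Chart ξ y i (V a)) (hA : SqZero A) (l : kerM A →ₗ[k] k)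

/-- The difference of the charts on an overlap. -/
def overlap (a b : ι) : Γ(derSh y i, V a ⊓ V b) :=
  diffSect hi hA (affine_inf (y := y) (hV a) (hV b))
    ((θ a).res ξ (hV a) (affine_inf (y := y) (hV a) (hV b)) inf_le_left)
    ((θ b).res ξ (hV b) (affine_inf (y := y) (hV a) (hV b)) inf_le_right) l

theorem rD_overlap (a b : ι) {W : P.Opens} (hW : IsAffineOpen W) (ha : W ≤ V a) (hb : W ≤ V b) :
    rD y i (le_inf ha hb) (overlap hi hV θ hA l a b) =
      diffSect hi hA hW ((θ a).res ξ (hV a) hW ha) ((θ b).res ξ (hV b) hW hb) l := by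
  rw [overlap, rD_diffSect hi hA _ hW, res_res_chart, res_res_chart]

theorem overlap_mem : (fun a b => overlap hi hV θ hA l a b) ∈ pairs V (derAb y i) := by
  intro a b d
  have hW : IsAffineOpen (V a ⊓ V b ⊓ V d) := affine_inf (y := y) (affine_inf (y := y) (hV a) (hV b)) (hV d)
  simp only [res_derAb]
  rw [rD_overlap hi hV θ hA l a b hW (inf_le_left.trans inf_le_left) (inf_le_left.trans inf_le_right),
    rD_overlap hi hV θ hA l b d hW (inf_le_left.trans inf_le_right) inf_le_right,
    rD_overlap hi hV θ hA l a d hW (inf_le_left.trans inf_le_left) inf_le_right]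
  exact diffSect_cocycle hi hA hW _ _ _ l

/-- The cocycle of differences. -/
def cocy : pairs V (derAb y i) := ⟨fun a b => overlap hi hV θ hA l a b, overlap_mem hi hV θ hA l⟩

variable (hcov : ⊤ ≤ iSup V)

/-- The class map on cocycles. -/
def clsHom : pairs V (derAb y i) →+ Coh.HH P (derSh y i) 1 :=
  (HHEquiv (derSh y i) 1).symm.toAddMonoidHom.comp
    ((exists_class_surj V hcov (derAb y i)).choose.comp (toZc V (derAb y i)))

theorem clsHom_eq_zero_iff (c : pairs V (derAb y i)) :
    clsHom hcov c = 0 ↔ (toZc V (derAb y i) c).1 ∈ Bc V (derAb y i).obj 1 := by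
  show (HHEquiv (derSh y i) 1).symm _ = 0 ↔ _
  rw [map_eq_zero_iff _ (HHEquiv (derSh y i) 1).symm.injective]
  exact (exists_class_surj V hcov (derAb y i)).choose_spec.1 _

theorem clsHom_eq_zero_of_coboundary (c : pairs V (derAb y i)) (h : ∀ a, Γ(derSh y i, V a))
    (hh : ∀ a b, rD y i inf_le_right (h b) - rD y i inf_le_left (h a) = c.1 a b) : clsHom hcov c = 0 := by
  rw [clsHom_eq_zero_iff]
  refine ⟨fun t => res (derAb y i).obj (inter_le V t 0) (h (t 0)), funext fun t => ?_⟩
  show cdiff V (derAb y i).obj 0 _ t = res (derAb y i).obj (inter_le_pair V t) (c.1 (t 0) (t 1))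
  rw [cdiff_zero_apply, ← hh, map_sub, res_res, res_res, ← res_derAb, ← res_derAb, res_res, res_res]
  rfl

theorem exists_coboundary (c : pairs V (derAb y i)) (hc : clsHom hcov c = 0) :
    ∃ h : ∀ a, Γ(derSh y i, V a), ∀ a b, rD y i inf_le_right (h b) - rD y i inf_le_left (h a) = c.1 a b :=
  exists_coboundary_of_mem V (derAb y i) c ((clsHom_eq_zero_iff hcov c).1 hc)

theorem clsHom_surjective (h : Acyclic V (derAb y i)) : Function.Surjective (clsHom (y := y) (i := i) hcov) := by
  intro z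
  obtain ⟨w, hw⟩ := (exists_class_surj V hcov (derAb y i)).choose_spec.2.2 h (HHEquiv (derSh y i) 1 z)
  obtain ⟨c, hc⟩ := toZc_surjective V (derAb y i) w
  exact ⟨c, (HHEquiv (derSh y i) 1).injective (((HHEquiv (derSh y i) 1).apply_symm_apply _).trans ((congrArg _ hc).trans hw))⟩

theorem clsHom_smul (r : Coh.Γtop P) (c c' : pairs V (derAb y i))
    (h : ∀ a b, c'.1 a b = (P.presheaf.map (homOfLE (le_top : V a ⊓ V b ≤ ⊤)).op r : Γ(P, V a ⊓ V b)) •
      (show Γ(derSh y i, V a ⊓ V b) from c.1 a b)) :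
    clsHom hcov c' = r • clsHom hcov c := by
  apply (HHEquiv (derSh y i) 1).injective
  show HHEquiv (derSh y i) 1 ((HHEquiv (derSh y i) 1).symm _) =
    HEquiv (derAb y i) 1 (Sheaf.H.map (Coh.smulAb (derSh y i) r) 1 ((HHEquiv (derSh y i) 1).symm _))
  rw [AddEquiv.apply_symm_apply, HEquiv_map]
  refine ((exists_class_surj V hcov (derAb y i)).choose_spec.2.1 (Coh.smulAb (derSh y i) r) (toZc V _ c) (toZc V _ c')
    (funext fun t => ?_)).trans ?_
  · show res (derAb y i).obj _ (c'.1 (t 0) (t 1)) =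
      (Coh.smulAb (derSh y i) r).hom.app _ (res (derAb y i).obj _ (c.1 (t 0) (t 1)))
    rw [← res_map]
    refine congrArg _ ((h _ _).trans ?_)
    exact (Coh.smulAb_app _ r _ _).symm
  · exact congrArg _ ((HHEquiv (derSh y i) 1).apply_symm_apply _).symm

/-- The class of a deformation at a functional, computed with charts. -/
def clsWith : Coh.HH P (derSh y i) 1 := clsHom hcov (cocy hi hV θ hA l)

theorem clsWith_congr (θ' : ∀ a, Chart ξ y i (V a)) :
    clsWith hi hV θ' hA l hcov = clsWith hi hV θ hA l hcov := by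
  rw [← sub_eq_zero, clsWith, clsWith, ← map_sub]
  refine clsHom_eq_zero_of_coboundary hcov _ (fun a => diffSect hi hA (hV a) (θ a) (θ' a) l) fun a b => ?_
  show _ = overlap hi hV θ' hA l a b - overlap hi hV θ hA l a b
  rw [rD_diffSect hi hA _ (affine_inf (y := y) (hV a) (hV b)),
    rD_diffSect hi hA _ (affine_inf (y := y) (hV a) (hV b)), overlap, overlap]
  have key := fun τ₁ τ₂ τ₃ => diffSect_cocycle hi hA (affine_inf (y := y) (hV a) (hV b)) (ξ := ξ) τ₁ τ₂ τ₃ l
  rw [sub_eq_sub_iff_add_eq_add, add_comm (diffSect hi hA _ _ ((θ' b).res ξ _ _ _) l), key, add_comm, key]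

variable [Smooth y] (ξ)

/-- Some charts. -/
def someCharts (a : ι) : Chart ξ y i (V a) := (exists_chart ξ hi (hV a)).some

/-- The class of a first order deformation at a functional. -/
def cls : Coh.HH P (derSh y i) 1 := clsWith hi hV (someCharts hi hV ξ) hA l hcov

variable {ξ}

theorem cls_eq : cls hi hV ξ hA l hcov = clsWith hi hV θ hA l hcov :=
  clsWith_congr hi hV θ hA l hcov (someCharts hi hV ξ)

theorem cls_add (l' : kerM A →ₗ[k] k) :
    cls hi hV ξ hA (l + l') hcov = cls hi hV ξ hA l hcov + cls hi hV ξ hA l' hcov := by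
  rw [cls, cls, cls, clsWith, clsWith, clsWith, ← map_add]
  congr 1
  exact Subtype.ext (funext fun a => funext fun b => diffSect_add hi hA _ _ _ l l')

theorem cls_smul (c : k) : cls hi hV ξ hA (c • l) hcov = Coh.toGlobal y c • cls hi hV ξ hA l hcov := by
  rw [cls, cls, clsWith, clsWith]
  refine clsHom_smul hcov _ _ _ fun a b => ?_
  refine (diffSect_smul hi hA _ _ _ c l).trans ?_
  refine congrArg (· • _) ?_
  exact congrArg (fun g : CommRingCat.of k ⟶ Γ(P, V a ⊓ V b) => g c)
    (show algR y _ = ((Scheme.ΓSpecIso (CommRingCat.of k)).inv ≫ y.appTop) ≫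
        P.presheaf.map (homOfLE (le_top : V a ⊓ V b ≤ ⊤)).op by
      simp [algR, Scheme.Hom.appLE, Scheme.Hom.appTop])

omit [Smooth y] in
theorem overlap_push {g : A ⟶ B} {η : DefSch X x B} (m : DefGlueLib.Mor g ξ η) (hB : SqZero B)
    (l : kerM B →ₗ[k] k) (a b : ι) :
    overlap hi hV (fun c => (θ c).push m) hB l a b = overlap hi hV θ hA (l.comp (kerMap g)) a b := by
  unfold overlap
  rw [Chart.push_res, Chart.push_res]
  exact diffSect_push hi m hA hB _ _ _ (kerMap g) (fun _ => rfl) l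

omit [Smooth y] in
theorem clsWith_push {g : A ⟶ B} {η : DefSch X x B} (m : DefGlueLib.Mor g ξ η) (hB : SqZero B)
    (l : kerM B →ₗ[k] k) :
    clsWith hi hV (fun c => (θ c).push m) hB l hcov = clsWith hi hV θ hA (l.comp (kerMap g)) hcov :=
  congrArg (clsHom hcov) (Subtype.ext (funext fun a => funext fun b => overlap_push hi hV θ hA m hB l a b))

theorem cls_push {g : A ⟶ B} {η : DefSch X x B} (m : DefGlueLib.Mor g ξ η) (hB : SqZero B) (l : kerM B →ₗ[k] k) :
    cls hi hV η hB l hcov = cls hi hV ξ hA (l.comp (kerMap g)) hcov :=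
  (cls_eq hi hV (fun c => (someCharts hi hV ξ c).push m) hB l hcov).trans
    (clsWith_push hi hV (someCharts hi hV ξ) hA hcov m hB l)

theorem exists_agreeing_charts (j : kerM A) (hlj : ∀ l : kerM A →ₗ[k] k, l j = 0 → l = 0) (l₀ : kerM A →ₗ[k] k)
    (hl₀ : l₀ j = 1) (h0 : cls hi hV ξ hA l₀ hcov = 0) :
    ∃ θ : ∀ a, Chart ξ y i (V a), ∀ a b (W : P.Opens) (hW : IsAffineOpen W) (ha : W ≤ V a) (hb : W ≤ V b),
      (θ a).res ξ (hV a) hW ha = (θ b).res ξ (hV b) hW hb := by
  let θ₀ := someCharts hi hV ξ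
  obtain ⟨h, hh⟩ := exists_coboundary hcov _ h0
  choose θ hθ using fun a => exists_shiftChart hi hA (hV a) (θ₀ a) (-h a) j
  have key : ∀ a, diffSect hi hA (hV a) (θ₀ a) (θ a) l₀ = -h a := fun a => by
    rw [hθ, hl₀, map_one, one_smul]
  refine ⟨θ, fun a b W hW ha hb => ?_⟩
  have e0 : diffSect hi hA hW ((θ a).res ξ (hV a) hW ha) ((θ b).res ξ (hV b) hW hb) l₀ = 0 := by
    have e1 := congrArg (rD y i (le_inf ha hb)) (hh a b)
    have e2 : rD y i (le_inf ha hb) (overlap hi hV θ₀ hA l₀ a b) =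
        diffSect hi hA hW ((θ₀ a).res ξ (hV a) hW ha) ((θ₀ b).res ξ (hV b) hW hb) l₀ :=
      rD_overlap hi hV θ₀ hA l₀ a b hW ha hb
    have e3 : rD y i hb (h b) - rD y i ha (h a) =
        diffSect hi hA hW ((θ₀ a).res ξ (hV a) hW ha) ((θ₀ b).res ξ (hV b) hW hb) l₀ := by
      refine Eq.trans ?_ e2
      refine Eq.trans ?_ e1
      rw [map_sub, ← res_derAb, ← res_derAb, ← res_derAb, ← res_derAb, ← res_derAb, ← res_derAb, res_res, res_res]
    rw [show h b = -diffSect hi hA (hV b) (θ₀ b) (θ b) l₀ by rw [key, neg_neg],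
      show h a = -diffSect hi hA (hV a) (θ₀ a) (θ a) l₀ by rw [key, neg_neg], map_neg, map_neg,
      rD_diffSect hi hA _ hW, rD_diffSect hi hA _ hW] at e3
    have c1 := diffSect_cocycle hi hA hW ((θ₀ a).res ξ (hV a) hW ha) ((θ a).res ξ (hV a) hW ha)
      ((θ b).res ξ (hV b) hW hb) l₀
    have c2 := diffSect_cocycle hi hA hW ((θ₀ a).res ξ (hV a) hW ha) ((θ₀ b).res ξ (hV b) hW hb)
      ((θ b).res ξ (hV b) hW hb) l₀
    rw [← c2, ← e3] at c1
    rwa [show ∀ p q : Γ(derSh y i, W), -q - -p + q = p from fun p q => by abel, add_eq_left] at c1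
  letI := algV x (i ⁻¹ᵁ W)
  have hdel : ∀ r, del hA hW ((θ a).res ξ (hV a) hW ha) ((θ b).res ξ (hV b) hW hb) r = 0 := fun r =>
    eq_zero_of_coef fun l => by
      have hl : l = l j • l₀ := sub_eq_zero.mp (hlj _ (by
        rw [LinearMap.sub_apply, LinearMap.smul_apply, hl₀, smul_eq_mul, mul_one, sub_self]))
      rw [hl, coef_smul_left, ← val_diffSect hi hA hW _ _ l₀ r, e0, val_zero, smul_zero]
  have e : ((θ a).res ξ (hV a) hW ha).θ = ((θ b).res ξ (hV b) hW hb).θ := CommRingCat.hom_ext (RingHom.ext fun r => by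
    have h1 := mu_del hA hW ((θ a).res ξ (hV a) hW ha) ((θ b).res ξ (hV b) hW hb) r
    rw [hdel, map_zero] at h1
    exact (sub_eq_zero.mp h1.symm).symm)
  generalize (θ a).res ξ (hV a) hW ha = σ at e ⊢
  generalize (θ b).res ξ (hV b) hW hb = σ' at e ⊢
  cases σ; cases σ'
  subst e
  rfl

end Groth.Agent.DefClassLib
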