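import Groth.Agent.DefClassLib.Class
import Groth.Prelude.Def_ArtFun6

/-! Agreeing charts give a closed immersion of the deformation into the trivial deformation of the ambient scheme. -/

set_option autoImplicit false
set_option backward.isDefEq.respectTransparency false
set_option backward.isDefEq.respectTransparency.types false
set_option linter.style.haveILetI false

universe u

open CategoryTheory CategoryTheory.Limits AlgebraicGeometry TopologicalSpace Opposite ArtFun ArtFun.Art IsLocalRing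

noncomputable section

namespace Groth.Agent.DefClassLib

open LocHilbGlueLib DefGlueLib RigidLib

variable {k : Type u} [Field k] {X P : Scheme.{u}} {x : X ⟶ specPt k}

theorem imU_inf {A : Art k k} (ξ : DefSch X x A) (W W' : X.Opens) : imU ξ (W ⊓ W') = imU ξ W ⊓ imU ξ W' :=
  Opens.ext (Set.image_inter (i_bijective ξ).1)

theorem homOfLE_isoSpec {Y : Scheme.{u}} {W W' : Y.Opens} (hW : IsAffineOpen W) (hW' : IsAffineOpen W') (h : W' ≤ W) :
    Y.homOfLE h ≫ hW.isoSpec.hom = hW'.isoSpec.hom ≫ Spec.map (Y.presheaf.map (homOfLE h).op) := by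
  rw [← cancel_mono hW.fromSpec, Category.assoc, Category.assoc, hW.isoSpec_hom_fromSpec,
    hW.map_fromSpec hW', hW'.isoSpec_hom_fromSpec, Scheme.homOfLE_ι]

theorem isPullback_XAincl' (y : P ⟶ specPt k) (A : Art k k) :
    IsPullback (XAincl y A) y (XApr y A) (specRes A) := by
  have hbase : specRes A ≫ specOver A = 𝟙 _ := by
    rw [specRes_comp]
    show Spec.map (CommRingCat.ofHom (RingHom.id k)) = _
    rw [CommRingCat.ofHom_id, Spec.map_id]
  refine IsPullback.of_right (h₁₂ := pullback.fst y (specOver A)) (v₁₃ := y) (h₂₂ := specOver A) ?_ (XAincl_snd y A)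
    (IsPullback.of_hasPullback y _)
  rw [XAincl_fst]
  exact (hbase.symm ▸ IsPullback.of_horiz_isIso ⟨by simp⟩ : IsPullback (𝟙 P) y y (specRes A ≫ specOver A))

theorem surjective_comp {R S T : CommRingCat.{u}} (f : R ⟶ S) (g : S ⟶ T) (hf : Function.Surjective f)
    (hg : Function.Surjective g) : Function.Surjective (f ≫ g) := fun z => by
  obtain ⟨w, rfl⟩ := hg z
  obtain ⟨v, rfl⟩ := hf w
  exact ⟨v, rfl⟩

variable {A : Art k k} {ξ : DefSch X x A} {y : P ⟶ specPt k} {i : X ⟶ P} [IsAffineHom i] [IsSeparated y]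
  {ι : Type u} {V : ι → P.Opens} (hV : ∀ a, IsAffineOpen (V a)) (θ : ∀ a, Chart ξ y i (V a))
  (hθ : ∀ a b (W : P.Opens) (hW : IsAffineOpen W) (ha : W ≤ V a) (hb : W ≤ V b),
    (θ a).res ξ (hV a) hW ha = (θ b).res ξ (hV b) hW hb)
  (hcov : ⊤ ≤ iSup V)

/-- The morphism of one chart. -/
def Chart.morph {U : P.Opens} (hU : IsAffineOpen U) (τ : Chart ξ y i U) : (imU ξ (i ⁻¹ᵁ U)).toScheme ⟶ P :=
  (isAffineOpen_imU ξ (hU.preimage i)).isoSpec.hom ≫ Spec.map τ.θ ≫ hU.fromSpec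

theorem homOfLE_morph {U U' : P.Opens} (hU : IsAffineOpen U) (hU' : IsAffineOpen U') (h : U' ≤ U)
    (τ : Chart ξ y i U) :
    ξ.total.homOfLE (imU_mono ξ (i.preimage_mono h)) ≫ τ.morph hU = (τ.res ξ hU hU' h).morph hU' := by
  unfold Chart.morph
  rw [← Category.assoc, homOfLE_isoSpec (isAffineOpen_imU ξ (hU.preimage i)) (isAffineOpen_imU ξ (hU'.preimage i)),
    Category.assoc, ← Category.assoc (Spec.map _) (Spec.map τ.θ), ← Spec.map_comp, τ.res_spec ξ hU hU' h,
    Spec.map_comp, Category.assoc, hU.map_fromSpec hU']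

include hθ hcov in
theorem exists_glued : ∃ Ψ : ξ.total ⟶ P, ∀ a, (imU ξ (i ⁻¹ᵁ V a)).ι ≫ Ψ = (θ a).morph (hV a) := by
  let O := fun a => imU ξ (i ⁻¹ᵁ V a)
  have hO : IsOpenCover O := TopologicalSpace.IsOpenCover.mk (top_unique fun z _ => by
    obtain ⟨w, rfl⟩ := (i_bijective ξ).2 z
    obtain ⟨a, ha⟩ := Opens.mem_iSup.mp (hcov (show i w ∈ (⊤ : P.Opens) from trivial))
    exact Opens.mem_iSup.mpr ⟨a, w, ha, rfl⟩)
  let 𝒰 := ξ.total.openCoverOfIsOpenCover O hO
  have hcompat : ∀ a b, pullback.fst (O a).ι (O b).ι ≫ (θ a).morph (hV a) =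
      pullback.snd (O a).ι (O b).ι ≫ (θ b).morph (hV b) := by
    intro a b
    have hW : IsAffineOpen (V a ⊓ V b) := affine_inf (y := y) (hV a) (hV b)
    have hp : IsPullback (ξ.total.homOfLE (inf_le_left : O a ⊓ O b ≤ O a))
        (ξ.total.homOfLE (inf_le_right : O a ⊓ O b ≤ O b)) (O a).ι (O b).ι := isPullback_opens_inf _ _
    rw [← cancel_epi hp.isoPullback.hom, hp.isoPullback_hom_fst_assoc, hp.isoPullback_hom_snd_assoc]
    have e : O a ⊓ O b = imU ξ (i ⁻¹ᵁ (V a ⊓ V b)) := (imU_inf ξ _ _).symm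
    rw [← cancel_epi (ξ.total.isoOfEq e.symm).hom, Scheme.isoOfEq_hom]
    simp only [← Category.assoc, Scheme.homOfLE_homOfLE]
    exact ((homOfLE_morph (hV a) hW inf_le_left (θ a)).trans
      (congrArg (Chart.morph hW) (hθ a b _ hW inf_le_left inf_le_right))).trans
      (homOfLE_morph (hV b) hW inf_le_right (θ b)).symm
  exact ⟨𝒰.glueMorphisms (fun a => (θ a).morph (hV a)) hcompat,
    fun a => 𝒰.ι_glueMorphisms _ hcompat a⟩

/-- The morphism of agreeing charts. -/
def glued : ξ.total ⟶ P := (exists_glued hV θ hθ hcov).choose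

theorem fromSpec_glued (a : ι) :
    (isAffineOpen_imU ξ ((hV a).preimage i)).fromSpec ≫ glued hV θ hθ hcov = Spec.map (θ a).θ ≫ (hV a).fromSpec := by
  rw [← IsAffineOpen.isoSpec_inv_ι, Category.assoc]
  rw [show (imU ξ (i ⁻¹ᵁ V a)).ι ≫ glued hV θ hθ hcov = (θ a).morph (hV a) from
    (exists_glued hV θ hθ hcov).choose_spec a]
  rw [Chart.morph, Iso.inv_hom_id_assoc]

theorem i_glued : ξ.i ≫ glued hV θ hθ hcov = i := by
  have hO : IsOpenCover (fun a => i ⁻¹ᵁ V a) := TopologicalSpace.IsOpenCover.mk (top_unique fun w _ => by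
    obtain ⟨a, ha⟩ := Opens.mem_iSup.mp (hcov (show i w ∈ (⊤ : P.Opens) from trivial))
    exact Opens.mem_iSup.mpr ⟨a, ha⟩)
  refine (X.openCoverOfIsOpenCover _ hO).hom_ext _ _ fun a => ?_
  show (i ⁻¹ᵁ V a).ι ≫ _ = (i ⁻¹ᵁ V a).ι ≫ _
  rw [← cancel_epi ((hV a).preimage i).isoSpec.inv, ← Category.assoc, ← Category.assoc, ← Category.assoc,
    IsAffineOpen.isoSpec_inv_ι]
  rw [← IsAffineOpen.SpecMap_appLE_fromSpec ξ.i (isAffineOpen_imU ξ ((hV a).preimage i)) ((hV a).preimage i)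
    (preimage_imU ξ _).ge, Category.assoc, fromSpec_glued, ← Category.assoc, ← Spec.map_comp]
  rw [← IsAffineOpen.SpecMap_appLE_fromSpec i (hV a) ((hV a).preimage i) le_rfl]
  refine congrArg (fun t => Spec.map t ≫ (hV a).fromSpec) ?_
  rw [← Scheme.Hom.app_eq_appLE]
  exact (θ a).π

theorem glued_y : glued hV θ hθ hcov ≫ y = ξ.f ≫ specOver A := by
  have hO : IsOpenCover (fun a => imU ξ (i ⁻¹ᵁ V a)) := TopologicalSpace.IsOpenCover.mk (top_unique fun z _ => by
    obtain ⟨w, rfl⟩ := (i_bijective ξ).2 z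
    obtain ⟨a, ha⟩ := Opens.mem_iSup.mp (hcov (show i w ∈ (⊤ : P.Opens) from trivial))
    exact Opens.mem_iSup.mpr ⟨a, w, ha, rfl⟩)
  refine (ξ.total.openCoverOfIsOpenCover _ hO).hom_ext _ _ fun a => ?_
  show (imU ξ (i ⁻¹ᵁ V a)).ι ≫ _ = (imU ξ (i ⁻¹ᵁ V a)).ι ≫ _
  rw [← cancel_epi (isAffineOpen_imU ξ ((hV a).preimage i)).isoSpec.inv, ← Category.assoc, ← Category.assoc,
    ← Category.assoc, ← Category.assoc, IsAffineOpen.isoSpec_inv_ι, fromSpec_glued, Category.assoc]
  rw [show (hV a).fromSpec ≫ y = Spec.map (algR y (V a)) from (specMap_algR y ⟨V a, hV a⟩).symm, ← Spec.map_comp,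
    (θ a).alg, ← specMap_strU, Spec.map_comp]
  rfl

theorem preimage_glued (U : P.Opens) : glued hV θ hθ hcov ⁻¹ᵁ U = imU ξ (i ⁻¹ᵁ U) := by
  rw [← eq_imU ξ (glued hV θ hθ hcov ⁻¹ᵁ U), ← Scheme.Hom.comp_preimage, i_glued]

theorem appLE_glued (a : ι) :
    (glued hV θ hθ hcov).appLE (V a) (imU ξ (i ⁻¹ᵁ V a)) (preimage_glued hV θ hθ hcov (V a)).ge = (θ a).θ := by
  apply Spec.map_injective
  rw [← cancel_mono (hV a).fromSpec, IsAffineOpen.SpecMap_appLE_fromSpec _ (hV a)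
    (isAffineOpen_imU ξ ((hV a).preimage i)), fromSpec_glued]

/-- The map to the trivial deformation of the ambient scheme. -/
def emb : ξ.total ⟶ XA y A := pullback.lift (glued hV θ hθ hcov) ξ.f (glued_y hV θ hθ hcov)

theorem emb_snd : emb hV θ hθ hcov ≫ XApr y A = ξ.f := pullback.lift_snd _ _ _

theorem i_emb : ξ.i ≫ emb hV θ hθ hcov = i ≫ XAincl y A := by
  apply pullback.hom_ext
  · rw [Category.assoc, Category.assoc, XAincl_fst, Category.comp_id]
    rw [emb, pullback.lift_fst, i_glued]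
  · rw [Category.assoc, Category.assoc, emb_snd, XAincl_snd, ξ.i_f, ← Category.assoc]
    congr 1
    have h1 := glued_y hV θ hθ hcov
    calc x = ξ.i ≫ ξ.f ≫ specOver A := by
          rw [← Category.assoc, ξ.i_f, Category.assoc, specRes_comp]
          exact (comp_specRes_base x).symm
      _ = i ≫ y := by rw [← h1, ← Category.assoc, i_glued]

variable [IsClosedImmersion i]

theorem isClosedImmersion_emb : IsClosedImmersion (emb hV θ hθ hcov) := by
  have hcovX : ⨆ a, UA y A (V a) = ⊤ := top_unique fun z _ => by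
    obtain ⟨a, ha⟩ := Opens.mem_iSup.mp (hcov (show pullback.fst y (specOver A) z ∈ (⊤ : P.Opens) from trivial))
    exact Opens.mem_iSup.mpr ⟨a, ha⟩
  refine (IsZariskiLocalAtTarget.iff_of_iSup_eq_top (P := @IsClosedImmersion) _ hcovX).mpr fun a => ?_
  let E := emb hV θ hθ hcov
  have hpre : E ⁻¹ᵁ UA y A (V a) = imU ξ (i ⁻¹ᵁ V a) := by
    rw [UA, ← Scheme.Hom.comp_preimage, show E ≫ pullback.fst y (specOver A) = glued hV θ hθ hcov from
      pullback.lift_fst _ _ _, preimage_glued]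
  haveI : IsAffine (UA y A (V a)).toScheme := isAffineOpen_UA y A (hV a)
  haveI : IsAffine (E ⁻¹ᵁ UA y A (V a)).toScheme := hpre ▸ isAffineOpen_imU ξ ((hV a).preimage i)
  refine IsClosedImmersion.of_surjective_of_isAffine _ ?_
  let φ := E.appLE (UA y A (V a)) (imU ξ (i ⁻¹ᵁ V a)) hpre.ge
  let T : Subring Γ(ξ.total, imU ξ (i ⁻¹ᵁ V a)) := φ.hom.range
  have hθT : ∀ r, (θ a).θ r ∈ T := fun r => ⟨fR y A (V a) r, by
    show (fR y A (V a) ≫ φ) r = _
    rw [fR, Scheme.Hom.appLE_comp_appLE]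
    simp only [E, emb, pullback.lift_fst, appLE_glued]⟩
  have hsT : ∀ c, strU ξ (imU ξ (i ⁻¹ᵁ V a)) c ∈ T := fun c => ⟨cmap y A (V a) c, by
    show (cmap y A (V a) ≫ φ) c = _
    rw [cmap, Category.assoc, Scheme.Hom.appLE_comp_appLE]
    simp only [E, emb_snd]
    rfl⟩
  have hstep : ∀ (n : ℕ) r, ∃ t ∈ T,
      r - t ∈ ((maximalIdeal A) ^ n).map (strU ξ (imU ξ (i ⁻¹ᵁ V a))).hom := by
    have h1 : ∀ r, ∃ t ∈ T, r - t ∈ (maximalIdeal A).map (strU ξ (imU ξ (i ⁻¹ᵁ V a))).hom := fun r => by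
      obtain ⟨s, hs⟩ := i.app_surjective (V a) (hV a) (piU ξ _ r)
      refine ⟨(θ a).θ s, hθT s, ?_⟩
      refine ((DefGlueLib.toFam ξ).ker_π (op ⟨i ⁻¹ᵁ V a, (hV a).preimage i⟩)).le ?_
      show piU ξ _ (r - (θ a).θ s) = 0
      rw [map_sub, sub_eq_zero, ← hs]
      exact (ConcreteCategory.congr_hom (θ a).π s).symm
    intro n
    induction n with
    | zero => exact fun r => ⟨0, T.zero_mem, by simp [Ideal.one_eq_top, Ideal.map_top]⟩
    | succ n ih =>
      intro r
      obtain ⟨t, ht, hrt⟩ := ih r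
      suffices H : ∀ z ∈ ((maximalIdeal A) ^ n).map (strU ξ (imU ξ (i ⁻¹ᵁ V a))).hom,
          ∃ t ∈ T, z - t ∈ ((maximalIdeal A) ^ (n + 1)).map (strU ξ (imU ξ (i ⁻¹ᵁ V a))).hom by
        obtain ⟨t', ht', h'⟩ := H _ hrt
        exact ⟨t + t', T.add_mem ht ht', by rwa [← sub_sub]⟩
      intro z hz
      induction hz using Submodule.span_induction with
      | mem z hz =>
        obtain ⟨c, hc, rfl⟩ := hz
        exact ⟨_, hsT c, by rw [sub_self]; exact zero_mem _⟩
      | zero => exact ⟨0, T.zero_mem, by simp⟩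
      | add p q _ _ hp hq =>
        obtain ⟨tp, htp, hp⟩ := hp
        obtain ⟨tq, htq, hq⟩ := hq
        exact ⟨tp + tq, T.add_mem htp htq, by rw [add_sub_add_comm]; exact add_mem hp hq⟩
      | smul r' p hp' hp =>
        obtain ⟨tp, htp, hp⟩ := hp
        obtain ⟨tr, htr, hr⟩ := h1 r'
        refine ⟨tr * tp, T.mul_mem htr htp, ?_⟩
        rw [smul_eq_mul, show r' * p - tr * tp = (r' - tr) * p + tr * (p - tp) by ring]
        refine add_mem ?_ (Ideal.mul_mem_left _ _ hp)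
        rw [pow_succ', Ideal.map_mul]
        exact Ideal.mul_mem_mul hr hp'
  have hsurj : Function.Surjective φ := fun r => by
    obtain ⟨n, hn⟩ := DefSchLib.maximalIdeal_isNilpotent A
    obtain ⟨t, ⟨s, hs⟩, ht⟩ := hstep n r
    rw [hn, Ideal.zero_eq_bot, Ideal.map_bot, Ideal.mem_bot, sub_eq_zero] at ht
    exact ⟨s, hs.trans ht.symm⟩
  rw [morphismRestrict_appTop]
  have key : ∀ U, U = UA y A (V a) → Function.Surjective (E.app U) := fun U e => by
    subst e
    have h2 : φ = E.app (UA y A (V a)) ≫ ξ.total.presheaf.map (eqToHom hpre.symm).op := rfl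
    rw [h2] at hsurj
    intro w
    obtain ⟨v, hv⟩ := hsurj (ξ.total.presheaf.map (eqToHom hpre.symm).op w)
    exact ⟨v, (ConcreteCategory.bijective_of_isIso (ξ.total.presheaf.map (eqToHom hpre.symm).op)).1 hv⟩
  exact surjective_comp _ _ (key _ (Scheme.Opens.ι_image_top _)) (ConcreteCategory.bijective_of_isIso _).2

end Groth.Agent.DefClassLib
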