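import Groth.Agent.DefClassLib.SubDef
import Groth.Agent.TanHilbLib.Finite
import Groth.Agent.ProperFin.Main

/-! Finiteness of the tangent space of the deformation functor of a subscheme of a smooth proper scheme. -/

set_option autoImplicit false
set_option backward.isDefEq.respectTransparency false
set_option backward.isDefEq.respectTransparency.types false
set_option linter.style.haveILetI false

universe u

open CategoryTheory CategoryTheory.Limits AlgebraicGeometry TopologicalSpace Opposite ArtFun ArtFun.Art IsLocalRing

noncomputable section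

namespace Groth.Agent.DefClassLib

open LocHilbGlueLib DefGlueLib

variable {k : Type u} [Field k] {X P : Scheme.{u}} {x : X ⟶ specPt k} {y : P ⟶ specPt k} {i : X ⟶ P}
  [IsClosedImmersion i] (hi : i ≫ y = x)

variable [TangentStr (defFunctor (Λ := k) X x)] [TangentStr (localHilb P y i.ker)]

/-- Embedded deformations to deformations on tangent spaces. -/
def subLin : TangentSpace (localHilb P y i.ker) →ₗ[k] TangentSpace (defFunctor (Λ := k) X x) where
  toFun I := subCl hi I
  map_add' s t := by
    obtain ⟨z, hz⟩ := (LocHilbGlueLib.cmp_bijective y i.ker (isFibreProd_dual2 (Λ := k) (k := k))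
      isSmallExt_dual).2 ⟨(s, t), (LocHilbGlueLib.h0 y i.ker).2.elim _ _⟩
    obtain ⟨h1, h2⟩ := Prod.ext_iff.mp (Subtype.ext_iff.mp hz)
    subst h1 h2
    refine (congrArg (subCl hi) (TangentStr.add_eq (F := localHilb P y i.ker) z)).trans ?_
    refine (subCl_natural hi plus z).symm.trans ?_
    refine (TangentStr.add_eq (F := defFunctor (Λ := k) X x) (subCl hi z)).symm.trans ?_
    rw [subCl_natural, subCl_natural]
    rfl
  map_smul' c s := by
    refine (congrArg (subCl hi) (TangentStr.smul_eq c s)).trans ?_
    refine (subCl_natural hi (scale c) s).symm.trans ?_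
    exact (TangentStr.smul_eq (F := defFunctor (Λ := k) X x) c (subCl hi s)).symm

omit [TangentStr (localHilb P y i.ker)] in
include hi in
theorem hfin [Smooth y] [IsProper y] : Hfin (defFunctor (Λ := k) X x) := by
  haveI : IsLocallyNoetherian P := LocallyOfFiniteType.isLocallyNoetherian y
  haveI : CompactSpace P := QuasiCompact.compactSpace_of_compactSpace y
  haveI : IsNoetherian P := ⟨⟩
  letI : X.Over (Spec (CommRingCat.of k)) := ⟨i ≫ y⟩
  haveI : IsProper (X ↘ Spec (CommRingCat.of k)) := inferInstanceAs (IsProper (i ≫ y))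
  haveI : TangentStr (localHilb P y i.ker) := (ArtFunLib.nonempty_tangentStr (LocHilbGlueLib.h0 y i.ker)
    (fun _ _ _ _ h => LocHilbGlueLib.cmp_bijective y i.ker h isSmallExt_dual)).some
  haveI : Module.Finite k (TangentSpace (localHilb P y i.ker)) := TanHilbLib.hfin y i rfl
  letI : Module k (Coh.HH P (derSh y i) 1) := Module.compHom _ (Coh.toGlobal y)
  haveI : Module.Finite k (Coh.HH P (derSh y i) 1) := ProperFin.allFin_of_isCoh y (derSh y i) (isCoh_derSh y i) 1
  have hcov : ⊤ ≤ ⨆ U : P.affineOpens, (U : P.Opens) := (iSup_affineOpens_eq_top P).ge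
  let L : TangentSpace (defFunctor (Λ := k) X x) →ₗ[k] Coh.HH P (derSh y i) 1 :=
    { toFun := fun z => tclass hi (fun U : P.affineOpens => U.2) hcov z
      map_add' := tclass_add hi _ hcov
      map_smul' := tclass_smul hi _ hcov }
  have hK : LinearMap.ker L ≤ LinearMap.range (subLin (y := y) hi) := fun z hz => by
    obtain ⟨I, hI⟩ := exists_subCl_eq_of_tclass hi (fun U : P.affineOpens => U.2) hcov z hz
    exact ⟨I, hI⟩
  show Module.Finite k _
  haveI : FiniteDimensional k (LinearMap.ker L) := Submodule.finiteDimensional_of_le hK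
  haveI : Module.Finite k (TangentSpace (defFunctor (Λ := k) X x) ⧸ LinearMap.ker L) :=
    Module.Finite.of_injective ((LinearMap.ker L).liftQ L le_rfl)
      (LinearMap.ker_eq_bot.mp (Submodule.ker_liftQ_eq_bot _ _ _ le_rfl))
  exact Module.Finite.of_submodule_quotient (LinearMap.ker L)

end Groth.Agent.DefClassLib
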