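import Groth.Agent.DefClassLib.Alg
import Groth.Agent.OmegaUnivLib.Univ
import Groth.Agent.OmegaUnivLib.Aff
import Groth.Agent.QCohLib.Coherent
import Groth.Agent.HomLib.Basic
import Groth.Agent.QCohLib.Push
import Groth.Agent.DevLib.Closed
import Groth.Agent.LocHilbGlueLib.Scheme

/-! Sections of the sheaf of derivations with values on a closed subscheme. -/

set_option autoImplicit false
set_option backward.isDefEq.respectTransparency false
set_option backward.isDefEq.respectTransparency.types false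
set_option linter.style.haveILetI false

universe u

open CategoryTheory CategoryTheory.Limits AlgebraicGeometry TopologicalSpace Opposite ArtFun ArtFun.Art

noncomputable section

namespace Groth.Agent.DefClassLib

open LocHilbGlueLib

variable {k : Type u} [Field k] {X P : Scheme.{u}} (y : P ⟶ specPt k) [QuasiSeparated y] (i : X ⟶ P)

/-- The functions on `X` as a module on `P`. -/
abbrev pushO : P.Modules := (Scheme.Modules.pushforward i).obj (Coh.structureModule X)

/-- The derivations of `P` into the functions on `X`. -/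
def derSh : P.Modules := RefHull.homSh (Omega.sheaf y) (pushO i)

/-- The value of a section on a function. -/
def val {V : P.Opens} (s : Γ(derSh y i, V)) (r : Γ(P, V)) : Γ(X, i ⁻¹ᵁ V) :=
  HomLib.ev s le_rfl (OmegaSh.dSect y V r)

/-- Restriction of sections. -/
abbrev rD {V V' : P.Opens} (h : V' ≤ V) : Γ(derSh y i, V) →+ Γ(derSh y i, V') :=
  ((derSh y i).presheaf.map (homOfLE h).op).hom

theorem smul_push {V : P.Opens} (r : Γ(P, V)) (z : Γ(X, i ⁻¹ᵁ V)) :
    (r • (show Γ(pushO i, V) from z) : Γ(pushO i, V)) = (i.app V r * z : Γ(X, i ⁻¹ᵁ V)) := rfl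

theorem val_add_right {V : P.Opens} (s : Γ(derSh y i, V)) (r r' : Γ(P, V)) :
    val y i s (r + r') = val y i s r + val y i s r' := by
  rw [val, OmegaSh.dSect_add, map_add]
  rfl

theorem val_mul {V : P.Opens} (s : Γ(derSh y i, V)) (r r' : Γ(P, V)) :
    val y i s (r * r') = i.app V r * val y i s r' + i.app V r' * val y i s r := by
  rw [val, OmegaSh.dSect_mul, map_add, map_smul, map_smul]
  rfl

theorem val_algR {V : P.Opens} (s : Γ(derSh y i, V)) (c : k) : val y i s (algR y V c) = 0 := by
  rw [val, show OmegaSh.dSect y V (algR y V c) = 0 from OmAff.dSect_appLE y ⊤ V le_top _, map_zero]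

theorem val_add {V : P.Opens} (s t : Γ(derSh y i, V)) (r : Γ(P, V)) :
    val y i (s + t) r = val y i s r + val y i t r := by
  rw [val, HomLib.ev_add]
  rfl

theorem val_zero {V : P.Opens} (r : Γ(P, V)) : val y i (0 : Γ(derSh y i, V)) r = 0 := by
  have h := val_add y i (0 : Γ(derSh y i, V)) 0 r
  rw [add_zero] at h
  exact left_eq_add.mp h

theorem val_smul {V : P.Opens} (a : Γ(P, V)) (s : Γ(derSh y i, V)) (r : Γ(P, V)) :
    val y i (a • s) r = i.app V a * val y i s r := by
  rw [val]
  erw [HomLib.ev_smul]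
  rfl

theorem val_res {V V' : P.Opens} (h : V' ≤ V) (s : Γ(derSh y i, V)) (r : Γ(P, V)) :
    val y i (rD y i h s) (P.presheaf.map (homOfLE h).op r) =
      X.presheaf.map (homOfLE (i.preimage_mono h)).op (val y i s r) := by
  rw [val, OmegaSh.dSect_map y h r]
  have e1 := fun m => HomLib.ev_res s (V := V) (V' := V') le_rfl h m
  refine Eq.trans ?_ (e1 (OmegaSh.dSect y V r))
  refine congrArg (fun t : Γ(Omega.sheaf y, V') →ₗ[Γ(P, V')] Γ(pushO i, V') => t _) ?_
  refine LinearMap.ext fun m => ?_
  refine HomLib.ext_germ _ _ fun p hp => ?_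
  rw [HomLib.germ_ev, HomLib.germ_ev]
  rfl

omit [QuasiSeparated y] in
theorem mem_small {V : P.Opens} (hV : IsAffineOpen V) : V ∈ OmegaUnivLib.small y :=
  ⟨hV, ⊤, isAffineOpen_top _, le_top⟩

theorem val_ext {V : P.Opens} (hV : IsAffineOpen V) {s t : Γ(derSh y i, V)}
    (h : ∀ r, val y i s r = val y i t r) : s = t := by
  haveI := OmegaAffLib.isQCoh_omega y
  refine HomLib.ev_injective hV (LinearMap.ext fun m => ?_)
  have hm : m ∈ Submodule.span Γ(P, V) (Set.range (OmegaSh.dSect y V)) := by
    rw [OmegaUnivLib.span_dSect y (mem_small y hV)]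
    trivial
  induction hm using Submodule.span_induction with
  | mem m hm => obtain ⟨r, rfl⟩ := hm; exact h r
  | zero => rw [map_zero, map_zero]
  | add a b _ _ ha hb => rw [map_add, map_add, ha, hb]
  | smul c a _ ha => rw [map_smul, map_smul, ha]

theorem exists_val {V : P.Opens} (hV : IsAffineOpen V) (δ : Γ(P, V) →+ Γ(X, i ⁻¹ᵁ V))
    (hmul : ∀ r r', δ (r * r') = i.app V r * δ r' + i.app V r' * δ r) (hc : ∀ c, δ (algR y V c) = 0) :
    ∃ s, ∀ r, val y i s r = δ r := by
  haveI := OmegaAffLib.isQCoh_omega y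
  letI := (y.appLE ⊤ V le_top).hom.toAlgebra
  letI : Module Γ(specPt k, ⊤) Γ(pushO i, V) := Module.compHom _ (y.appLE ⊤ V le_top).hom
  haveI : IsScalarTower Γ(specPt k, ⊤) Γ(P, V) Γ(pushO i, V) := .of_algebraMap_smul fun _ _ => rfl
  let T : Ω[Γ(P, V)⁄Γ(specPt k, ⊤)] →ₗ[Γ(P, V)] Γ(Omega.sheaf y, V) := (OmAff.toSect y ⊤ V le_top).hom
  have hT : ∀ b, T (KaehlerDifferential.D Γ(specPt k, ⊤) Γ(P, V) b) = OmegaSh.dSect y V b :=
    fun b => OmAff.toSect_d y ⊤ V le_top b
  have hb := OmegaAffLib.bijective_of_D y (isAffineOpen_top _) hV le_top T hT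
  let D : Derivation Γ(specPt k, ⊤) Γ(P, V) Γ(pushO i, V) := Derivation.mk'
    { toFun := fun r => δ r
      map_add' := map_add δ
      map_smul' := fun c r => by
        show δ (y.appLE ⊤ V le_top c * r) = i.app V (y.appLE ⊤ V le_top c) * δ r
        obtain ⟨c, rfl⟩ := (ConcreteCategory.bijective_of_isIso (Scheme.ΓSpecIso (CommRingCat.of k)).inv).2 c
        rw [hmul, show δ (y.appLE ⊤ V le_top ((Scheme.ΓSpecIso (CommRingCat.of k)).inv c)) = 0 from hc c,
          mul_zero, add_zero] }
    fun r r' => hmul r r'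
  obtain ⟨s, hs⟩ := HomLib.ev_surjective (M := Omega.sheaf y) (N := pushO i) hV
    (D.liftKaehlerDifferential ∘ₗ (LinearEquiv.ofBijective T hb).symm.toLinearMap)
  refine ⟨s, fun r => ?_⟩
  rw [val, hs]
  show D.liftKaehlerDifferential ((LinearEquiv.ofBijective T hb).symm (OmegaSh.dSect y V r)) = _
  rw [(LinearEquiv.symm_apply_eq (e := LinearEquiv.ofBijective T hb)).mpr (hT r).symm,
    Derivation.liftKaehlerDifferential_comp_D]
  rfl

theorem rD_eq {V V' : P.Opens} (hV' : IsAffineOpen V') (hV : IsAffineOpen V) (h : V' ≤ V) (s : Γ(derSh y i, V))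
    (t : Γ(derSh y i, V'))
    (ht : ∀ r, val y i t (P.presheaf.map (homOfLE h).op r) = X.presheaf.map (homOfLE (i.preimage_mono h)).op (val y i s r)) :
    rD y i h s = t := by
  have het : (P.presheaf.map (homOfLE h).op).hom.Etale := by
    have h1 := Scheme.Hom.etale_appLE (𝟙 P) hV hV' h
    simpa [Scheme.Hom.appLE] using h1
  refine val_ext y i hV' fun r => ?_
  refine congrArg (fun δ : Γ(P, V') →+ Γ(X, i ⁻¹ᵁ V') => δ r) (der_eq_of_unramified _ het (i.app V').hom
    (AddMonoidHom.mk' (val y i (rD y i h s)) (val_add_right y i _))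
    (AddMonoidHom.mk' (val y i t) (val_add_right y i _)) (val_mul y i _) (val_mul y i _) fun r => ?_)
  exact (val_res y i h s r).trans (ht r).symm

theorem isCoh_derSh [IsClosedImmersion i] [IsLocallyNoetherian P] [LocallyOfFiniteType y] :
    Coh.IsCoh (derSh y i) := by
  haveI : IsLocallyNoetherian X := LocallyOfFiniteType.isLocallyNoetherian i
  refine HomLib.isCoh_homSh ?_ (DevLib.isCoh_pushforward_closed i (DevLib.isCoh_structureModule X))
  haveI : LocallyOfFinitePresentation y := inferInstance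
  exact (QCohLib.isCoh_iff_isFP _).2 (OmegaUnivLib.isFP_of_universal (OmegaUnivLib.isUniversal_dOmega y))

end Groth.Agent.DefClassLib
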