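import Groth.Agent.DefClassLib.Tangent
import Groth.Agent.DefClassLib.Embed

/-! Embedded deformations as deformations. -/

set_option autoImplicit false
set_option backward.isDefEq.respectTransparency false
set_option backward.isDefEq.respectTransparency.types false
set_option linter.style.haveILetI false

universe u

open CategoryTheory CategoryTheory.Limits AlgebraicGeometry TopologicalSpace Opposite ArtFun ArtFun.Art IsLocalRing

noncomputable section

namespace Groth.Agent.DefClassLib

open LocHilbGlueLib DefGlueLib RigidLib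

variable {k : Type u} [Field k] {X P : Scheme.{u}} {x : X ⟶ specPt k} {A B : Art k k}
  {y : P ⟶ specPt k} {i : X ⟶ P} [IsClosedImmersion i]

theorem ker_fst_sub (I : (localHilb P y i.ker).obj A) :
    (pullback.fst (XAincl y A) I.1.subschemeι).ker = i.ker := by
  rw [Scheme.IdealSheafData.ker_fst_of_isClosedImmersion, Scheme.IdealSheafData.ker_subschemeι, I.2.2]

/-- The closed fibre of an embedded deformation. -/
def subIncl (I : (localHilb P y i.ker).obj A) : X ⟶ I.1.subscheme :=
  IsClosedImmersion.lift (pullback.fst (XAincl y A) I.1.subschemeι) i (ker_fst_sub I).le ≫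
    pullback.snd (XAincl y A) I.1.subschemeι

theorem subIncl_ι (I : (localHilb P y i.ker).obj A) : subIncl I ≫ I.1.subschemeι = i ≫ XAincl y A := by
  rw [subIncl, Category.assoc, ← pullback.condition, ← Category.assoc, IsClosedImmersion.lift_fac]

theorem isPullback_subIncl (I : (localHilb P y i.ker).obj A) :
    IsPullback (subIncl I) (i ≫ y) (I.1.subschemeι ≫ XApr y A) (specRes A) := by
  have h1 : IsPullback i (subIncl I) (XAincl y A) I.1.subschemeι :=
    isPullback_of_isClosedImmersion _ _ _ _ (subIncl_ι I).symm
      (by rw [Scheme.IdealSheafData.ker_subschemeι, I.2.2])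
  exact h1.flip.paste_vert (isPullback_XAincl' y A)

variable (hi : i ≫ y = x)

/-- An embedded deformation as a deformation. -/
def sub (I : (localHilb P y i.ker).obj A) : DefSch X x A where
  total := I.1.subscheme
  f := I.1.subschemeι ≫ XApr y A
  flat := I.2.1
  i := subIncl I
  isPullback := hi ▸ isPullback_subIncl I

/-- Restriction of embedded deformations. -/
def subMor (g : A ⟶ B) (I : (localHilb P y i.ker).obj A) :
    Mor g (sub hi I) (sub hi ((localHilb P y i.ker).map g I)) where
  ψ := (I.1.comapIso (XAmap y g)).hom ≫ pullback.snd (XAmap y g) I.1.subschemeι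
  w := by
    show ((I.1.comapIso (XAmap y g)).hom ≫ pullback.snd _ _) ≫ I.1.subschemeι ≫ XApr y A =
      ((I.1.comap (XAmap y g)).subschemeι ≫ XApr y B) ≫ specMap g
    rw [Category.assoc, ← Category.assoc (pullback.snd _ _), ← pullback.condition, Category.assoc, ← Category.assoc,
      Scheme.IdealSheafData.comapIso_hom_fst, Category.assoc]
    rw [XAmap_snd]
  i := by
    show subIncl ((localHilb P y i.ker).map g I) ≫ _ = subIncl I
    rw [← cancel_mono I.1.subschemeι, Category.assoc, Category.assoc, ← pullback.condition, subIncl_ι,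
      ← Category.assoc (I.1.comapIso _).hom, Scheme.IdealSheafData.comapIso_hom_fst, ← Category.assoc,
      show subIncl ((localHilb P y i.ker).map g I) ≫ (I.1.comap (XAmap y g)).subschemeι = i ≫ XAincl y B from
        subIncl_ι ((localHilb P y i.ker).map g I), Category.assoc, XAincl_XAmap]

/-- From embedded deformations to deformations. -/
def subCl (I : (localHilb P y i.ker).obj A) : (defFunctor (Λ := k) X x).obj A := (sub hi I).cl

theorem subCl_natural (g : A ⟶ B) (I : (localHilb P y i.ker).obj A) :
    (defFunctor (Λ := k) X x).map g (subCl hi I) = subCl hi ((localHilb P y i.ker).map g I) :=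
  (subMor hi g I).cl_eq

variable [IsSeparated y] {ι : Type u} {V : ι → P.Opens} (hV : ∀ a, IsAffineOpen (V a)) (hcov : ⊤ ≤ iSup V)

include hi hV hcov in
theorem exists_subCl_eq {ξ : DefSch X x A} (θ : ∀ a, Chart ξ y i (V a))
    (hθ : ∀ a b (W : P.Opens) (hW : IsAffineOpen W) (ha : W ≤ V a) (hb : W ≤ V b),
      (θ a).res ξ (hV a) hW ha = (θ b).res ξ (hV b) hW hb) :
    ∃ I, subCl hi I = ξ.cl := by
  haveI := isClosedImmersion_emb hV θ hθ hcov
  let E := emb hV θ hθ hcov
  have hflat : FlatOver P y A E.ker := by
    show Flat (E.ker.subschemeι ≫ XApr y A)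
    have e : E.ker.subschemeι = inv E.toImage ≫ E :=
      (IsIso.eq_inv_comp E.toImage).mpr E.toImage_imageι
    rw [e, Category.assoc, show E ≫ XApr y A = ξ.f from emb_snd hV θ hθ hcov]
    infer_instance
  have hpb : IsPullback i ξ.i (XAincl y A) E := by
    refine (IsPullback.of_bot ?_ (i_emb hV θ hθ hcov) (isPullback_XAincl' y A)).flip
    rw [show E ≫ XApr y A = ξ.f from emb_snd hV θ hθ hcov, hi]
    exact ξ.isPullback
  have hcomap : E.ker.comap (XAincl y A) = i.ker := by
    rw [← Scheme.IdealSheafData.ker_fst_of_isClosedImmersion, ← hpb.isoPullback_inv_fst,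
      Scheme.Hom.ker_comp_of_isIso]
  let I : (localHilb P y i.ker).obj A := ⟨E.ker, hflat, hcomap⟩
  let m : Mor (𝟙 A) (sub hi I) ξ :=
    { ψ := E.toImage
      w := by
        show E.toImage ≫ E.ker.subschemeι ≫ XApr y A = ξ.f ≫ specMap (𝟙 A)
        rw [specMap_id, Category.comp_id, ← Category.assoc, show E.toImage ≫ E.ker.subschemeι = E from E.toImage_imageι]
        exact emb_snd hV θ hθ hcov
      i := by
        show ξ.i ≫ E.toImage = subIncl I
        rw [← cancel_mono I.1.subschemeι, subIncl_ι, Category.assoc,
          show E.toImage ≫ E.ker.subschemeι = E from E.toImage_imageι]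
        exact i_emb hV θ hθ hcov }
  exact ⟨I, (Quotient.sound (s := DefSch.setoid X x A) ⟨m.iso⟩).symm⟩

variable [Smooth y] [TangentStr (defFunctor (Λ := k) X x)]

include hi hV hcov in
theorem exists_subCl_eq_of_tclass (z : (defFunctor (Λ := k) X x).obj (dual k k))
    (hz : tclass hi hV hcov z = 0) : ∃ I, subCl hi I = z := by
  induction z using Quotient.inductionOn with
  | h ξ =>
    obtain ⟨θ, hθ⟩ := exists_agreeing_charts hi hV sqZero_dual hcov (ξ := ξ) epsJ
      (fun l hl => eq_zero_of_epsJ l hl) (lEps k) lEps_epsJ hz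
    exact exists_subCl_eq hi hV hcov θ hθ

end Groth.Agent.DefClassLib
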