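import Groth.Agent.DefClassLib.Class

/-! The linear map from the tangent space of the deformation functor to first cohomology. -/

set_option autoImplicit false
set_option backward.isDefEq.respectTransparency false
set_option backward.isDefEq.respectTransparency.types false
set_option linter.style.haveILetI false

universe u

open CategoryTheory CategoryTheory.Limits AlgebraicGeometry TopologicalSpace Opposite ArtFun ArtFun.Art IsLocalRing

noncomputable section

namespace Groth.Agent.DefClassLib

open LocHilbGlueLib DefGlueLib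

variable {k : Type u} [Field k] {X P : Scheme.{u}} {x : X ⟶ specPt k}

theorem sqZero_dual : SqZero (dual k k) := fun a ha b hb => by
  have h1 : TrivSqZeroExt.fst (R := k) (M := k) a = 0 := ((dual k k).mem_maximalIdeal_iff a).1 ha
  have h2 : TrivSqZeroExt.fst (R := k) (M := k) b = 0 := ((dual k k).mem_maximalIdeal_iff b).1 hb
  refine TrivSqZeroExt.ext (R := k) (M := k) ?_ ?_
  · show TrivSqZeroExt.fst (R := k) (M := k) a * TrivSqZeroExt.fst (R := k) (M := k) b = 0
    rw [h1, zero_mul]
  · exact (TrivSqZeroExt.snd_mul a b).trans (by rw [h1, h2]; simp)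

theorem sqZero_dual2 : SqZero (dual2 k k) := fun a ha b hb => by
  have h1 : TrivSqZeroExt.fst (R := k) (M := k × k) a = 0 := ((dual2 k k).mem_maximalIdeal_iff a).1 ha
  have h2 : TrivSqZeroExt.fst (R := k) (M := k × k) b = 0 := ((dual2 k k).mem_maximalIdeal_iff b).1 hb
  refine TrivSqZeroExt.ext (R := k) (M := k × k) ?_ ?_
  · show TrivSqZeroExt.fst (R := k) (M := k × k) a * TrivSqZeroExt.fst (R := k) (M := k × k) b = 0
    rw [h1, zero_mul]
  · exact (TrivSqZeroExt.snd_mul a b).trans (by rw [h1, h2]; simp)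

variable (k) in
/-- The coefficient of `ε`. -/
def lEps : kerM (dual k k) →ₗ[k] k where
  toFun j := TrivSqZeroExt.snd (R := k) (M := k) (j : (dual k k).carrier)
  map_add' _ _ := rfl
  map_smul' _ _ := rfl

theorem lEps_scale (c : k) : (lEps k).comp (kerMap (scale c)) = c • lEps k := LinearMap.ext fun _ => rfl

theorem lEps_plus : (lEps k).comp (kerMap (plus (Λ := k) (k := k))) =
    (lEps k).comp (kerMap (pr₁ (Λ := k) (k := k))) + (lEps k).comp (kerMap (pr₂ (Λ := k) (k := k))) :=
  LinearMap.ext fun _ => rfl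

theorem lEps_id : (lEps k).comp (kerMap (𝟙 (dual k k))) = lEps k := LinearMap.ext fun _ => rfl

/-- `ε` as an element of the maximal ideal. -/
def epsJ : kerM (dual k k) := ⟨(DualNumber.eps : DualNumber k), RingHom.mem_ker.mpr rfl⟩

theorem lEps_epsJ : lEps k (epsJ (k := k)) = 1 := rfl

theorem eq_zero_of_epsJ (l : kerM (dual k k) →ₗ[k] k) (h : l epsJ = 0) : l = 0 := LinearMap.ext fun j => by
  have hj : TrivSqZeroExt.fst (R := k) (M := k) (j : (dual k k).carrier) = 0 := RingHom.mem_ker.mp j.2
  have e : j = lEps k j • epsJ := Subtype.ext (TrivSqZeroExt.ext (R := k) (M := k)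
    (by show TrivSqZeroExt.fst (R := k) (M := k) (j : (dual k k).carrier) = lEps k j * 0; rw [hj, mul_zero])
    (by show TrivSqZeroExt.snd (R := k) (M := k) (j : (dual k k).carrier) = lEps k j * 1; rw [mul_one]; rfl))
  rw [e, map_smul, h, smul_zero, LinearMap.zero_apply]

variable {y : P ⟶ specPt k} {i : X ⟶ P} [IsAffineHom i] (hi : i ≫ y = x) [IsSeparated y] [Smooth y]
  {ι : Type u} {V : ι → P.Opens} (hV : ∀ a, IsAffineOpen (V a)) (hcov : ⊤ ≤ iSup V)

/-- The class of an isomorphism class of first order deformations. -/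
def tclass : (defFunctor (Λ := k) X x).obj (dual k k) → Coh.HH P (derSh y i) 1 :=
  Quotient.lift (fun ξ => cls hi hV ξ sqZero_dual (lEps k) hcov) fun ξ ξ' ⟨e⟩ => by
    rw [cls_push hi hV sqZero_dual hcov (Mor.ofIso e) sqZero_dual (lEps k), lEps_id]

theorem tclass_map (z : (defFunctor (Λ := k) X x).obj (dual2 k k)) (g : dual2 k k ⟶ dual k k) :
    ∀ ξ : DefSch X x (dual2 k k), z = ξ.cl →
      tclass hi hV hcov ((defFunctor (Λ := k) X x).map g z) =
        cls hi hV ξ sqZero_dual2 ((lEps k).comp (kerMap g)) hcov := by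
  rintro ξ rfl
  exact cls_push hi hV sqZero_dual2 hcov (Mor.baseChange ξ g) sqZero_dual (lEps k)

variable [TangentStr (defFunctor (Λ := k) X x)]

theorem tclass_smul (c : k) (s : TangentSpace (defFunctor (Λ := k) X x)) :
    tclass hi hV hcov (c • s : TangentSpace (defFunctor (Λ := k) X x)) = Coh.toGlobal y c • tclass hi hV hcov s := by
  refine (congrArg (tclass hi hV hcov) (TangentStr.smul_eq c s)).trans ?_
  induction s using Quotient.inductionOn with
  | h ξ =>
    refine (cls_push hi hV sqZero_dual hcov (Mor.baseChange ξ (scale c)) sqZero_dual (lEps k)).trans ?_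
    rw [lEps_scale, cls_smul]
    rfl

theorem tclass_add (s t : TangentSpace (defFunctor (Λ := k) X x)) :
    tclass hi hV hcov (s + t : TangentSpace (defFunctor (Λ := k) X x)) =
      tclass hi hV hcov s + tclass hi hV hcov t := by
  have hflat : Flat x := by
    induction s using Quotient.inductionOn with
    | h ξ => exact MorphismProperty.of_isPullback ξ.isPullback ξ.flat
  obtain ⟨z, hz⟩ := (defFunctor_heps (X := X) (x := x) _ _ (isFibreProd_dual2 (Λ := k) (k := k))).2
    ⟨(s, t), (defFunctor_h0 hflat).2.elim _ _⟩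
  obtain ⟨h1, h2⟩ := Prod.ext_iff.mp (Subtype.ext_iff.mp hz)
  obtain ⟨ξ, rfl⟩ : ∃ ξ : DefSch X x (dual2 k k), z = ξ.cl := by
    induction z using Quotient.inductionOn with
    | h ξ => exact ⟨ξ, rfl⟩
  subst h1 h2
  refine (congrArg (tclass hi hV hcov) (TangentStr.add_eq (F := defFunctor (Λ := k) X x) ξ.cl)).trans ?_
  show tclass hi hV hcov _ = tclass hi hV hcov ((defFunctor (Λ := k) X x).map pr₁ ξ.cl) +
    tclass hi hV hcov ((defFunctor (Λ := k) X x).map pr₂ ξ.cl)
  rw [tclass_map hi hV hcov _ _ ξ rfl, tclass_map hi hV hcov _ _ ξ rfl, tclass_map hi hV hcov _ _ ξ rfl, lEps_plus,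
    cls_add]

end Groth.Agent.DefClassLib
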